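import Mathlib.GroupTheory.OrderOfElement
import Mathlib.GroupTheory.Index
import Mathlib.Data.Nat.Prime.Basic
import Mathlib.Tactic.IntervalCases
import Mathlib.Tactic.Ring

/-!
# Inverted elements witnessing the square bound for elementary abelian 2-groups on modules

`Inverter A` says that some `a ∈ A` inverts an element `k` of prime order that centralises a
subgroup `B < A`, with `k` needing modules of dimension `N` over `GF(2)`, large against `|A : B|`.
-/

set_option autoImplicit false

namespace CfsgLib.LocalEven.SquareBound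

/-- Faithful `GF(2)`-modules of an element of order `r` have dimension at least `N`. -/
def Prim (r N : ℕ) : Prop := ∀ d : ℕ, 0 < d → r ∣ 2 ^ d - 1 → N ≤ d

/-- An element of `A` inverts an element of prime order centralising a subgroup of `A`. -/
def Inverter {Γ : Type*} [Group Γ] (A : Subgroup Γ) : Prop :=
  ∃ (B : Subgroup Γ) (a k : Γ) (r N m : ℕ), B < A ∧ a ∈ A ∧ (∀ b ∈ B, b * k = k * b) ∧
    a * k * a⁻¹ = k⁻¹ ∧ orderOf k = r ∧ r.Prime ∧ r ≠ 2 ∧ Prim r N ∧
    Nat.card A = Nat.card B * 2 ^ m ∧ 4 * m ≤ N + 1

theorem prim_three {r : ℕ} (hr : 5 ≤ r) : Prim r 3 := by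
  intro d hd hdvd
  by_contra h
  have hle := Nat.le_of_dvd (Nat.sub_pos_of_lt (Nat.one_lt_two_pow hd.ne')) hdvd
  interval_cases d <;> omega

end CfsgLib.LocalEven.SquareBound
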