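import Cfsg.Agent.Lib.Components.Layer
import Cfsg.Prelude.Def_LocalEven

/-!
# Diagonals of a component over an elementary abelian 2-group permuting its conjugates
-/

set_option autoImplicit false
set_option linter.style.haveILetI false

namespace CfsgLib.LocalEven.SquareBound

open Subgroup CfsgLib.Components

variable {Γ : Type*} [Group Γ]

/-- The conjugates of `L` under `B`, joined. -/
def orbit (B L : Subgroup Γ) : Subgroup Γ := ⨆ b : B, L.map (MulAut.conj (b : Γ)).toMonoidHom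

theorem orbit_le_centralizer {B L : Subgroup Γ} (hL : Cfsg.IsComponent L) {g : Γ}
    (h : ∀ b ∈ B, L.map (MulAut.conj (g * b)).toMonoidHom ≠ L) :
    (orbit B L).map (MulAut.conj g).toMonoidHom ≤ centralizer (L : Set Γ) := by
  rw [orbit, Subgroup.map_iSup]
  refine iSup_le fun b => ?_
  rw [Subgroup.map_map, show (MulAut.conj g).toMonoidHom.comp (MulAut.conj (b : Γ)).toMonoidHom =
    (MulAut.conj (g * b)).toMonoidHom from MonoidHom.ext fun x => by simp [mul_assoc]]
  exact le_centralizer_of_commutator_eq_bot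
    (component_commutator_of_ne (component_map_conj hL _) hL (h b b.2))

theorem map_conj_eq_iff {L : Subgroup Γ} {g : Γ} :
    L.map (MulAut.conj g).toMonoidHom = L ↔ g ∈ normalizer (L : Set Γ) := by
  rw [mem_normalizer_iff_map_conj_eq]
  rfl

theorem commute_of_orbit {B L : Subgroup Γ} (hL : Cfsg.IsComponent L) {g : Γ} (hgc : ∀ b ∈ B, b * g = g * b)
    (h : ∀ b ∈ B, g * b ∉ normalizer (L : Set Γ)) {u v : Γ} (hu : u ∈ orbit B L) (hv : v ∈ orbit B L) :
    Commute u (g * v * g⁻¹) := by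
  have hle : orbit B L ≤ centralizer ({g * v * g⁻¹} : Set Γ) := by
    refine iSup_le fun b => ?_
    rintro _ ⟨x, hx, rfl⟩
    rw [mem_centralizer_singleton_iff]
    have hv' : (b : Γ)⁻¹ * (g * v * g⁻¹) * b ∈ centralizer (L : Set Γ) := by
      refine orbit_le_centralizer hL (g := (b : Γ)⁻¹ * g) (fun c hc he => ?_) ⟨v, hv, by simp [mul_assoc]⟩
      rw [map_conj_eq_iff, mul_assoc] at he
      apply h ((b : Γ)⁻¹ * c) (B.mul_mem (B.inv_mem b.2) hc)
      rwa [← mul_assoc, ← (hgc _ (B.inv_mem b.2)), mul_assoc]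
    have e : x * ((b : Γ)⁻¹ * (g * v * g⁻¹) * b) = ((b : Γ)⁻¹ * (g * v * g⁻¹) * b) * x := hv' x hx
    show (b : Γ) * x * (b : Γ)⁻¹ * (g * v * g⁻¹) = g * v * g⁻¹ * ((b : Γ) * x * (b : Γ)⁻¹)
    calc (b : Γ) * x * (b : Γ)⁻¹ * (g * v * g⁻¹)
        = b * (x * ((b : Γ)⁻¹ * (g * v * g⁻¹) * b)) * (b : Γ)⁻¹ := by group
      _ = b * (((b : Γ)⁻¹ * (g * v * g⁻¹) * b) * x) * (b : Γ)⁻¹ := by rw [e]
      _ = _ := by group
  exact mem_centralizer_singleton_iff.1 (hle hu)

theorem ea_hyperplane [Finite Γ] {B C : Subgroup Γ} (hB : Cfsg.IsElementaryAbelian 2 B) (hCB : C ≤ B)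
    {b : Γ} (hb : b ∈ B) (hbC : b ∉ C) :
    ∃ B' : Subgroup Γ, C ≤ B' ∧ B' ≤ B ∧ b ∉ B' ∧ (∀ x ∈ B, x ∈ B' ∨ b * x ∈ B') := by
  haveI := hB.1
  obtain ⟨B', ⟨h1, h2, h3⟩, hmax⟩ := Set.Finite.exists_maximal (Set.toFinite
    {X : Subgroup Γ | C ≤ X ∧ X ≤ B ∧ b ∉ X}) ⟨C, le_rfl, hCB, hbC⟩
  refine ⟨B', h1, h2, h3, fun x hx => ?_⟩
  by_contra! hcon
  have hsq : ∀ y ∈ B, y * y = 1 := fun y hy => by rw [← pow_two]; exact hB.2 y hy
  have hmem : b ∈ B' ⊔ zpowers x := by
    by_contra hbm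
    exact hcon.1 (hmax ⟨h1.trans le_sup_left, sup_le h2 (zpowers_le.2 hx), hbm⟩ le_sup_left
      (mem_sup_right (mem_zpowers x)))
  have hnorm : zpowers x ≤ normalizer (B' : Set Γ) := by
    refine zpowers_le.2 (mem_normalizer_iff.2 fun y => ?_)
    constructor
    · intro hy
      rwa [setLike_mul_comm hx (h2 hy), mul_inv_cancel_right]
    · intro hy
      have hy' : y ∈ B := by
        have := B.mul_mem (B.mul_mem (B.inv_mem hx) (h2 hy)) hx
        rwa [show x⁻¹ * (x * y * x⁻¹) * x = y by group] at this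
      rwa [setLike_mul_comm hx hy', mul_inv_cancel_right] at hy
  rw [← SetLike.mem_coe, coe_mul_of_right_le_normalizer_left _ _ hnorm] at hmem
  obtain ⟨u, hu, w, hw, he⟩ := hmem
  obtain ⟨i, rfl⟩ := mem_zpowers_iff.1 hw
  rcases Int.even_or_odd i with ⟨j, rfl⟩ | ⟨j, rfl⟩
  · apply h3
    rw [← he]
    show u * x ^ (j + j) ∈ B'
    rw [zpow_add, ← Commute.mul_zpow (Commute.refl x), hsq x hx, one_zpow, mul_one]
    exact hu
  · apply hcon.2
    rw [← he]
    show u * x ^ (2 * j + 1) * x ∈ B'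
    rw [mul_assoc, ← zpow_add_one, show (2 * j + 1 + 1 : ℤ) = (j + 1) + (j + 1) by ring, zpow_add,
      ← Commute.mul_zpow (Commute.refl x), hsq x hx, one_zpow, mul_one]
    exact hu

/-- A diagonal element over `B` lying above `x ∈ L`. -/
theorem exists_diag [Finite Γ] {L : Subgroup Γ} (hL : Cfsg.IsComponent L) :
    ∀ (B : Subgroup Γ), Cfsg.IsElementaryAbelian 2 B → ∀ x ∈ L,
      (∀ b ∈ B, b ∈ normalizer (L : Set Γ) → b * x = x * b) →
      ∃ y ∈ orbit B L, (∀ b ∈ B, b * y = y * b) ∧ x⁻¹ * y ∈ centralizer (L : Set Γ) ∧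
        y ^ orderOf x = 1 ∧
        ∀ a : Γ, (∀ b ∈ B, b * a = a * b) →
          (a * x * a⁻¹ = x → a * y * a⁻¹ = y) ∧ (a * x * a⁻¹ = x⁻¹ → a * y * a⁻¹ = y⁻¹) := by
  intro B
  induction B using WellFoundedLT.induction with
  | _ B ih =>
    intro hB x hx hxB
    haveI := hB.1
    have hsq : ∀ y ∈ B, y * y = 1 := fun y hy => by rw [← pow_two]; exact hB.2 y hy
    by_cases hall : ∀ b ∈ B, b ∈ normalizer (L : Set Γ)
    · refine ⟨x, mem_iSup_of_mem 1 ⟨x, hx, by simp⟩, fun b hb => hxB b hb (hall b hb), by simp,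
        pow_orderOf_eq_one x, fun a _ => ⟨id, id⟩⟩
    push Not at hall
    obtain ⟨b0, hb0, hb0n⟩ := hall
    obtain ⟨B', hC, hB', hb0', hsplit⟩ := ea_hyperplane hB (C := B ⊓ normalizer (L : Set Γ))
      inf_le_left hb0 (fun h => hb0n h.2)
    obtain ⟨y, hy, hyc, hyx, hyp, hya⟩ := ih B' (lt_of_le_of_ne hB' fun h => hb0' (h ▸ hb0))
      ⟨⟨⟨fun u v => Subtype.ext (setLike_mul_comm (hB' u.2) (hB' v.2))⟩⟩, fun u hu => hB.2 u (hB' hu)⟩
      x hx (fun b hb => hxB b (hB' hb))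
    have hne : ∀ b ∈ B', b0 * b ∉ normalizer (L : Set Γ) := fun b hb hn => by
      have h1 : b0 * b ∈ B' := hC ⟨B.mul_mem hb0 (hB' hb), hn⟩
      exact hb0' (by simpa using B'.mul_mem h1 (B'.inv_mem hb))
    have hcomm : ∀ b ∈ B', b * b0 = b0 * b := fun b hb => setLike_mul_comm (hB' hb) hb0
    set y' := b0 * y * b0⁻¹ with hy'
    have hyy : Commute y y' := commute_of_orbit hL hcomm hne hy hy
    have hy'c : y' ∈ centralizer (L : Set Γ) :=
      orbit_le_centralizer hL (fun b hb he => hne b hb (map_conj_eq_iff.1 he)) ⟨y, hy, rfl⟩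
    have hb0i : b0⁻¹ = b0 := inv_eq_of_mul_eq_one_right (hsq b0 hb0)
    have hswap : b0 * y' * b0⁻¹ = y := by
      rw [hy']
      calc b0 * (b0 * y * b0⁻¹) * b0⁻¹ = (b0 * b0) * y * (b0 * b0)⁻¹ := by group
        _ = y := by rw [hsq b0 hb0]; group
    refine ⟨y * y', mul_mem ?_ ?_, ?_, ?_, ?_, ?_⟩
    · exact (iSup_le fun b : B' => le_iSup (fun c : B => L.map (MulAut.conj (c : Γ)).toMonoidHom)
        ⟨b, hB' b.2⟩ : orbit B' L ≤ orbit B L) hy
    · refine (?_ : (orbit B' L).map (MulAut.conj b0).toMonoidHom ≤ orbit B L) ⟨y, hy, rfl⟩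
      rw [orbit, Subgroup.map_iSup]
      refine iSup_le fun b => ?_
      rw [Subgroup.map_map, show (MulAut.conj b0).toMonoidHom.comp (MulAut.conj (b : Γ)).toMonoidHom =
        (MulAut.conj (b0 * b)).toMonoidHom from MonoidHom.ext fun z => by simp [mul_assoc]]
      exact le_iSup (fun c : B => L.map (MulAut.conj (c : Γ)).toMonoidHom) ⟨_, B.mul_mem hb0 (hB' b.2)⟩
    · have hb' : ∀ b ∈ B', b * (y * y') = y * y' * b := by
        intro b hb
        have e1 : Commute b y := hyc b hb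
        have e2 : Commute b b0 := hcomm b hb
        exact e1.mul_right ((e2.mul_right e1).mul_right e2.inv_right)
      have hb0y : Commute b0 (y * y') := by
        have e : b0 * (y * y') * b0⁻¹ = y * y' := by
          calc b0 * (y * y') * b0⁻¹ = (b0 * y * b0⁻¹) * (b0 * y' * b0⁻¹) := by group
            _ = y' * y := by rw [hswap]
            _ = y * y' := hyy.eq.symm
        exact mul_inv_eq_iff_eq_mul.1 e
      intro b hb
      rcases hsplit b hb with h | h
      · exact hb' b h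
      · have : Commute (b0⁻¹ * (b0 * b)) (y * y') := hb0y.inv_left.mul_left (hb' _ h)
        rwa [inv_mul_cancel_left] at this
    · rw [← mul_assoc]
      exact mul_mem hyx hy'c
    · rw [hyy.mul_pow, hyp, hy', conj_pow, hyp]
      group
    · intro a ha
      have hab : Commute a b0 := (ha b0 hb0).symm
      obtain ⟨h1, h2⟩ := hya a fun b hb => ha b (hB' hb)
      have hmove : a * y' * a⁻¹ = b0 * (a * y * a⁻¹) * b0⁻¹ := by
        rw [hy']
        calc a * (b0 * y * b0⁻¹) * a⁻¹ = (a * b0) * y * (a * b0)⁻¹ := by group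
          _ = (b0 * a) * y * (b0 * a)⁻¹ := by rw [hab.eq]
          _ = _ := by group
      constructor <;> intro he
      · rw [← conj_mul, hmove, h1 he]
      · rw [← conj_mul, hmove, h2 he, hyy.eq, mul_inv_rev, hy']
        group

end CfsgLib.LocalEven.SquareBound
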