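import Cfsg.Agent.Lib.LocalEven.SquareBound.Defs
import Cfsg.Prelude.Def_LocalEven
import Mathlib.RepresentationTheory.Basic
import Mathlib.LinearAlgebra.Dual.Lemmas
import Mathlib.FieldTheory.Finiteness
import Mathlib.GroupTheory.PGroup

/-!
# The square bound for fixed points and commutators from inverted elements
-/

set_option autoImplicit false
set_option linter.style.haveILetI false

namespace CfsgLib.LocalEven.SquareBound

open Module

variable {Γ V : Type*} [Group Γ] [AddCommGroup V] [Module (ZMod 2) V]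
  (ρ : Representation (ZMod 2) Γ V)

/-- The vectors fixed by `A`. -/
def fix (A : Subgroup Γ) : Submodule (ZMod 2) V := ⨅ a : A, LinearMap.eqLocus (ρ a) 1

theorem mem_fix {A : Subgroup Γ} {v : V} : v ∈ fix ρ A ↔ ∀ a ∈ A, ρ a v = v := by
  simp [fix]

/-- The span of the `a v - v`, `a ∈ A`. -/
def comm (A : Subgroup Γ) : Submodule (ZMod 2) V := ⨆ a : A, LinearMap.range (ρ a - 1)

theorem fix_dual (A : Subgroup Γ) : fix ρ.dual A = (comm ρ A).dualAnnihilator := by
  ext φ
  rw [mem_fix, Submodule.mem_dualAnnihilator]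
  constructor
  · intro h w hw
    have hle : comm ρ A ≤ LinearMap.ker φ := by
      refine iSup_le fun a => ?_
      rintro _ ⟨v, rfl⟩
      have h1 := LinearMap.congr_fun (h (a : Γ)⁻¹ (A.inv_mem a.2)) v
      rw [Representation.dual_apply, inv_inv] at h1
      change φ (ρ a v) = φ v at h1
      rw [LinearMap.mem_ker]
      show φ (ρ a v - v) = 0
      rw [map_sub, h1, sub_self]
    exact hle hw
  · intro h a ha
    refine LinearMap.ext fun v => ?_
    show φ (ρ a⁻¹ v) = φ v
    rw [← sub_eq_zero, ← map_sub]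
    exact h _ (Submodule.mem_iSup_of_mem ⟨a⁻¹, A.inv_mem ha⟩ ⟨v, rfl⟩)

theorem dual_injective (hρ : Function.Injective ρ) : Function.Injective ρ.dual := by
  intro g h hgh
  refine inv_injective (hρ (LinearMap.ext fun v => ?_))
  rw [← sub_eq_zero, ← Module.forall_dual_apply_eq_zero_iff (ZMod 2)]
  intro φ
  rw [map_sub, sub_eq_zero]
  exact LinearMap.congr_fun (LinearMap.congr_fun hgh φ) v

variable [Finite V]

theorem exists_moved (hρ : Function.Injective ρ) {B : Subgroup Γ} (hB : IsPGroup 2 B) {k : Γ}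
    (hcomm : ∀ b ∈ B, b * k = k * b) (hodd : Odd (orderOf k)) (hk : k ≠ 1) :
    ∃ w ∈ fix ρ B, ρ k w ≠ w := by
  by_contra! h
  haveI : Fact (Nat.Prime 2) := ⟨Nat.prime_two⟩
  set U := LinearMap.range (ρ k - 1)
  have hUne : U ≠ ⊥ := by
    intro h0
    refine hk (hρ ?_)
    rw [map_one, ← sub_eq_zero]
    exact LinearMap.range_eq_bot.1 h0
  letI : MulAction B U :=
    { smul := fun b u => ⟨ρ b u.1, by
        obtain ⟨v, hv⟩ := u.2
        refine ⟨ρ b v, ?_⟩
        show ρ k (ρ b v) - ρ b v = ρ b u.1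
        rw [← hv]
        show ρ k (ρ b v) - ρ b v = ρ b (ρ k v - v)
        rw [map_sub, ← Module.End.mul_apply, ← Module.End.mul_apply, ← map_mul, ← map_mul, hcomm b b.2]⟩
      one_smul := fun u => Subtype.ext (by show ρ ((1 : B) : Γ) u.1 = u.1; simp)
      mul_smul := fun a b u => Subtype.ext (by
        show ρ ((a * b : B) : Γ) u.1 = ρ a (ρ b u.1); simp [map_mul]) }
  have hdvd : 2 ∣ Nat.card U := by
    haveI := (Submodule.nontrivial_iff_ne_bot).2 hUne
    rw [Module.natCard_eq_pow_finrank (K := ZMod 2), Nat.card_zmod]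
    exact dvd_pow_self 2 (Module.finrank_pos).ne'
  have h0 : (0 : U) ∈ MulAction.fixedPoints B U := fun b => Subtype.ext (map_zero (ρ b))
  obtain ⟨⟨u, hu⟩, hufix, hune⟩ := hB.exists_fixed_point_of_prime_dvd_card_of_fixed_point U hdvd h0
  have hufix' : u ∈ fix ρ B := (mem_fix ρ).2 fun b hb => congrArg Subtype.val (hufix ⟨b, hb⟩)
  have hku : ρ k u = u := h u hufix'
  obtain ⟨v, hv⟩ := hu
  have hv' : ρ k v = v + u := by
    change ρ k v - v = u at hv
    rw [← hv, add_sub_cancel]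
  have hpow : ∀ i : ℕ, ρ (k ^ i) v = v + i • u := by
    intro i
    induction i with
    | zero => simp
    | succ i ih =>
      rw [pow_succ', map_mul, Module.End.mul_apply, ih, map_add, map_nsmul, hv', hku, succ_nsmul']
      abel
  have h1 := hpow (orderOf k)
  rw [pow_orderOf_eq_one, map_one, Module.End.one_apply, left_eq_add] at h1
  obtain ⟨j, hj⟩ := hodd
  rw [hj, add_nsmul, one_nsmul, mul_nsmul, ← Nat.cast_smul_eq_nsmul (ZMod 2) 2,
    show ((2 : ℕ) : ZMod 2) = 0 from rfl, zero_smul, nsmul_zero, zero_add] at h1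
  exact hune (Subtype.ext h1.symm)

theorem fixed_codim {k a : Γ} {W : Submodule (ZMod 2) V} (hkW : ∀ w ∈ W, ρ k w ∈ W)
    (hak : a * k * a⁻¹ = k⁻¹) {r N : ℕ} (hord : orderOf k = r)
    (hr : r.Prime) (hr2 : r ≠ 2) (hN : Prim r N) (hne : ∃ w ∈ W, ρ k w ≠ w) :
    N + 2 * finrank (ZMod 2) ↥(W ⊓ LinearMap.eqLocus (ρ a) 1) ≤ 2 * finrank (ZMod 2) W := by
  haveI := Fact.mk hr
  have hkiW : ∀ i : ℕ, ∀ w ∈ W, ρ (k ^ i) w ∈ W := by
    intro i
    induction i with
    | zero => simp
    | succ i ih =>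
      intro w hw
      rw [pow_succ', map_mul, Module.End.mul_apply]
      exact hkW _ (ih w hw)
  set F1 := W ⊓ LinearMap.eqLocus (ρ a) 1
  set F2 := W ⊓ LinearMap.eqLocus (ρ (k * a)) 1
  set W0 := W ⊓ LinearMap.eqLocus (ρ k) 1
  -- the free action
  letI : MulAction (Subgroup.zpowers k) W :=
    { smul := fun c w => ⟨ρ c w.1, by
        obtain ⟨i, hi⟩ := Subgroup.mem_zpowers_iff.1 c.2
        have hfin : IsOfFinOrder k := orderOf_pos_iff.1 (hord ▸ hr.pos)
        obtain ⟨j, hj⟩ := (hfin.mem_powers_iff_mem_zpowers).2 c.2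
        exact (show k ^ j = c.1 from hj) ▸ hkiW j _ w.2⟩
      one_smul := fun w => Subtype.ext (by show ρ ((1 : Subgroup.zpowers k) : Γ) w.1 = w.1; simp)
      mul_smul := fun c e w => Subtype.ext (by
        show ρ ((c * e : Subgroup.zpowers k) : Γ) w.1 = ρ c (ρ e w.1); simp [map_mul]) }
  have hp : IsPGroup r (Subgroup.zpowers k) :=
    IsPGroup.of_card (n := 1) (by rw [Nat.card_zpowers, hord, pow_one])
  have hmod := hp.card_modEq_card_fixedPoints W
  have hcard : Nat.card (MulAction.fixedPoints (Subgroup.zpowers k) W) = Nat.card W0 := by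
    refine Nat.card_congr ⟨fun w => ⟨w.1.1, w.1.2, congrArg Subtype.val (w.2 ⟨k, Subgroup.mem_zpowers k⟩)⟩,
      fun w => ⟨⟨w.1, w.2.1⟩, fun c => Subtype.ext ?_⟩, fun w => rfl, fun w => rfl⟩
    have hfin : IsOfFinOrder k := orderOf_pos_iff.1 (hord ▸ hr.pos)
    obtain ⟨j, hj⟩ := (hfin.mem_powers_iff_mem_zpowers).2 c.2
    show ρ c w.1 = w.1
    rw [← (show k ^ j = c.1 from hj)]
    clear hj
    induction j with
    | zero => simp
    | succ j ih => rw [pow_succ', map_mul, Module.End.mul_apply, ih]; exact w.2.2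
  rw [hcard, Module.natCard_eq_pow_finrank (K := ZMod 2) (V := ↥W),
    Module.natCard_eq_pow_finrank (K := ZMod 2) (V := ↥W0), Nat.card_zmod] at hmod
  have hlt : finrank (ZMod 2) W0 < finrank (ZMod 2) W := by
    refine Submodule.finrank_lt_finrank_of_lt (lt_of_le_of_ne inf_le_left fun h => ?_)
    obtain ⟨w, hw, hwk⟩ := hne
    exact hwk (h.ge hw).2
  have hcod : finrank (ZMod 2) W0 + N ≤ finrank (ZMod 2) W := by
    obtain ⟨c, hc⟩ := Nat.exists_eq_add_of_le hlt.le
    suffices hN' : N ≤ c by omega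
    refine hN c (by omega) ?_
    have h2 := (Nat.modEq_iff_dvd' (Nat.pow_le_pow_right two_pos hlt.le)).1 hmod.symm
    rw [hc, pow_add, ← Nat.mul_sub_one] at h2
    exact (Nat.Coprime.pow_right _ ((Nat.coprime_primes hr Nat.prime_two).2 hr2)).dvd_of_dvd_mul_left h2
  -- the two fixed spaces
  have hinf : F1 ⊓ F2 ≤ W0 := by
    rintro w ⟨⟨hw, h1⟩, _, h2⟩
    change ρ a w = w at h1
    change ρ (k * a) w = w at h2
    rw [map_mul, Module.End.mul_apply, h1] at h2
    exact ⟨hw, h2⟩
  obtain ⟨e, he⟩ : ∃ e : ℕ, e + e = r + 1 := ⟨(r + 1) / 2, by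
    rcases hr.eq_two_or_odd' with h | ⟨j, hj⟩
    · exact absurd h hr2
    · omega⟩
  have hconj : k ^ e * a * (k ^ e)⁻¹ = k * a := by
    have h1 : a * k ^ e * a⁻¹ = (k ^ e)⁻¹ := by rw [← conj_pow, hak, inv_pow]
    have h2 : a * (k ^ e)⁻¹ = k ^ e * a := by
      have h3 : a * (k ^ e)⁻¹ * a⁻¹ = k ^ e := by
        rw [← conj_inv, h1, inv_inv]
      calc a * (k ^ e)⁻¹ = a * (k ^ e)⁻¹ * a⁻¹ * a := by group
        _ = k ^ e * a := by rw [h3]
    rw [mul_assoc, h2, ← mul_assoc, ← pow_add, he, pow_succ, ← hord, pow_orderOf_eq_one, one_mul]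
  have hmap : F1.map (ρ (k ^ e)) ≤ F2 := by
    rintro _ ⟨w, ⟨hw, h1⟩, rfl⟩
    change ρ a w = w at h1
    refine ⟨hkiW e w hw, ?_⟩
    show ρ (k * a) (ρ (k ^ e) w) = ρ (k ^ e) w
    rw [← hconj, ← Module.End.mul_apply, ← map_mul, inv_mul_cancel_right, map_mul, Module.End.mul_apply, h1]
  have hinj : Function.Injective (ρ (k ^ e)) := fun x y hxy => by
    have := congrArg (ρ (k ^ e)⁻¹) hxy
    rwa [← Module.End.mul_apply, ← Module.End.mul_apply, ← map_mul, inv_mul_cancel, map_one,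
      Module.End.one_apply, Module.End.one_apply] at this
  have hge : finrank (ZMod 2) F1 ≤ finrank (ZMod 2) F2 :=
    (Submodule.equivMapOfInjective _ hinj F1).finrank_eq.le.trans (Submodule.finrank_mono hmap)
  have hsum := Submodule.finrank_sup_add_finrank_inf_eq F1 F2
  have hsup : finrank (ZMod 2) ↥(F1 ⊔ F2) ≤ finrank (ZMod 2) W :=
    Submodule.finrank_mono (sup_le inf_le_left inf_le_left)
  have hin := Submodule.finrank_mono hinf
  omega

/-- Twice the rank of `A` plus the dimension of its fixed space is at most the dimension. -/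
theorem fix_bound [Finite Γ] (hρ : Function.Injective ρ)
    (hinv : ∀ A : Subgroup Γ, Cfsg.IsElementaryAbelian 2 A → A ≠ ⊥ → Inverter A) :
    ∀ (n : ℕ) (A : Subgroup Γ), Cfsg.IsElementaryAbelian 2 A → Nat.card A = 2 ^ n →
      2 * n + finrank (ZMod 2) (fix ρ A) ≤ finrank (ZMod 2) V := by
  intro n
  induction n using Nat.strong_induction_on with
  | _ n ih =>
    intro A hA hn
    by_cases hA1 : A = ⊥
    · subst hA1
      rw [Subgroup.card_bot] at hn
      rw [(Nat.pow_eq_one.1 hn.symm).resolve_left (by norm_num)]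
      simpa using Submodule.finrank_le _
    obtain ⟨B, a, k, r, N, m, hBA, ha, hcomm, hak, hord, hr, hr2, hN, hcard, hm⟩ := hinv A hA hA1
    haveI := hA.1
    have hB : Cfsg.IsElementaryAbelian 2 B :=
      ⟨⟨⟨fun x y => Subtype.ext (setLike_mul_comm (hBA.le x.2) (hBA.le y.2))⟩⟩,
        fun x hx => hA.2 x (hBA.le hx)⟩
    have hBp : IsPGroup 2 B := fun x => ⟨1, Subtype.ext (by rw [pow_one]; exact hB.2 _ x.2)⟩
    haveI : Fact (Nat.Prime 2) := ⟨Nat.prime_two⟩
    obtain ⟨l, hl⟩ := hBp.exists_card_eq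
    have hnlm : n = l + m := by
      rw [hn, hl, ← pow_add] at hcard
      exact Nat.pow_right_injective le_rfl hcard
    have hlt : l < n := by
      have h1 := Set.ncard_lt_ncard (show (B : Set Γ) ⊂ A from hBA) (Set.toFinite _)
      rw [← Nat.card_coe_set_eq, ← Nat.card_coe_set_eq] at h1
      change Nat.card B < Nat.card A at h1
      rw [hl, hn] at h1
      exact (Nat.pow_lt_pow_iff_right one_lt_two).1 h1
    have hBb := ih l hlt B hB hl
    have hkW : ∀ w ∈ fix ρ B, ρ k w ∈ fix ρ B := fun w hw => (mem_fix ρ).2 fun b hb => by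
      rw [← Module.End.mul_apply, ← map_mul, hcomm b hb, map_mul, Module.End.mul_apply,
        (mem_fix ρ).1 hw b hb]
    have hodd : Odd (orderOf k) := hord ▸ hr.odd_of_ne_two hr2
    have hk1 : k ≠ 1 := fun h => hr.ne_one (by rw [← hord, h, orderOf_one])
    have hc := fixed_codim ρ (a := a) hkW hak hord hr hr2 hN (exists_moved ρ hρ hBp hcomm hodd hk1)
    have hle : fix ρ A ≤ fix ρ B ⊓ LinearMap.eqLocus (ρ a) 1 := fun w hw =>
      ⟨(mem_fix ρ).2 fun b hb => (mem_fix ρ).1 hw b (hBA.le hb), (mem_fix ρ).1 hw a ha⟩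
    have := Submodule.finrank_mono hle
    omega

/-- Twice the rank of `A` is at most the dimension of its commutator space. -/
theorem comm_bound [Finite Γ] (hρ : Function.Injective ρ)
    (hinv : ∀ A : Subgroup Γ, Cfsg.IsElementaryAbelian 2 A → A ≠ ⊥ → Inverter A)
    {n : ℕ} {A : Subgroup Γ} (hA : Cfsg.IsElementaryAbelian 2 A) (hn : Nat.card A = 2 ^ n) :
    2 * n ≤ finrank (ZMod 2) (comm ρ A) := by
  haveI : Finite (Module.Dual (ZMod 2) V) := Module.finite_of_finite (ZMod 2)
  have h := fix_bound ρ.dual (dual_injective ρ hρ) hinv n A hA hn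
  rw [fix_dual, Subspace.dual_finrank_eq] at h
  have h2 := Subspace.finrank_add_finrank_dualAnnihilator_eq (comm ρ A)
  omega

end CfsgLib.LocalEven.SquareBound
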