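import Cfsg.Agent.Lib.LocalEven.SquareBound.Witness
import Cfsg.Agent.Lib.AutPSL.MainTwo
import Cfsg.Agent.Lib.AutPSL.Main
import Cfsg.Agent.Lib.AutPSL.FieldAut
import Cfsg.Agent.Lib.AutPSL.FieldCentral
import Cfsg.Agent.Lib.Linear.Card
import Cfsg.Agent.Lib.Char.Burnside

/-!
# Inverted elements for elementary abelian automorphism groups of `PSL₂(3^(2n+1))`
-/

set_option autoImplicit false
set_option linter.style.haveILetI false

namespace CfsgLib.LocalEven.SquareBound

open Matrix Subgroup CfsgLib.AutPSL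
open scoped MatrixGroups

variable {F : Type*} [Field F]

local notation "M2" => Matrix (Fin 2) (Fin 2) F

theorem mul_self_of_trace {M : M2} (h : M 1 1 = -M 0 0) : M * M = (-M.det) • (1 : M2) := by
  rw [det_fin_two]
  ext i j
  fin_cases i <;> fin_cases j <;> simp [Matrix.mul_apply, Fin.sum_univ_two, h] <;> ring

theorem trace_of_sq_scalar {M : M2} {c : F} (hM : M * M = c • (1 : M2))
    (hns : ∀ d : F, M ≠ d • (1 : M2)) : M 1 1 = -M 0 0 := by
  by_contra h
  have h0 : M 0 0 + M 1 1 ≠ 0 := fun e => h (eq_neg_of_add_eq_zero_right e)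
  have e00 := congrFun (congrFun hM 0) 0
  have e11 := congrFun (congrFun hM 1) 1
  have e01 := congrFun (congrFun hM 0) 1
  have e10 := congrFun (congrFun hM 1) 0
  simp [Matrix.mul_apply, Fin.sum_univ_two] at e00 e11 e01 e10
  have hb : M 0 1 = 0 := by
    have : M 0 1 * (M 0 0 + M 1 1) = 0 := by linear_combination e01
    exact (mul_eq_zero.1 this).resolve_right h0
  have hc : M 1 0 = 0 := by
    have : M 1 0 * (M 0 0 + M 1 1) = 0 := by linear_combination e10
    exact (mul_eq_zero.1 this).resolve_right h0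
  have hd : M 0 0 = M 1 1 := by
    have : (M 0 0 - M 1 1) * (M 0 0 + M 1 1) = 0 := by linear_combination e00 - e11
    exact sub_eq_zero.1 ((mul_eq_zero.1 this).resolve_right h0)
  refine hns (M 0 0) ?_
  ext i j
  fin_cases i <;> fin_cases j <;> simp [hb, hc, hd]

/-- Traceless matrices commuting up to a scalar are proportional or anticommute. -/
theorem anticomm_or_proportional (h2 : (2 : F) ≠ 0) {g h : GL (Fin 2) F} (hg : g.1 1 1 = -g.1 0 0)
    (hh : h.1 1 1 = -h.1 0 0) {t : F} (hgh : g.1 * h.1 = t • (h.1 * g.1)) :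
    g.1 * h.1 = -(h.1 * g.1) ∨ ∃ c : F, h.1 = c • g.1 := by
  by_cases ht : 1 + t = 0
  · left
    rw [hgh, eq_neg_of_add_eq_zero_right ht, neg_one_smul]
  right
  set s := 2 * (g.1 0 0 * h.1 0 0) + g.1 0 1 * h.1 1 0 + g.1 1 0 * h.1 0 1
  have hsum : g.1 * h.1 + h.1 * g.1 = s • (1 : M2) := by
    ext i j
    fin_cases i <;> fin_cases j <;>
      simp [Matrix.mul_apply, Fin.sum_univ_two, hg, hh, s] <;> ring
  have h1 : h.1 * g.1 = (s / (1 + t)) • (1 : M2) := by
    rw [hgh, show t • (h.1 * g.1) + h.1 * g.1 = (1 + t) • (h.1 * g.1) by module] at hsum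
    rw [div_eq_inv_mul, ← smul_smul, ← hsum, smul_smul, inv_mul_cancel₀ ht, one_smul]
  have hd : -g.1.det ≠ 0 := neg_ne_zero.2 (isUnit_iff_ne_zero.1 ((Matrix.isUnit_iff_isUnit_det _).1 g.isUnit))
  refine ⟨(s / (1 + t)) / (-g.1.det), ?_⟩
  have h3 := congrArg (· * g.1) h1
  simp only [Matrix.mul_assoc, mul_self_of_trace hg, Matrix.mul_smul, mul_one, Matrix.smul_mul, one_mul] at h3
  rw [div_eq_inv_mul, ← smul_smul, ← h3, smul_smul, inv_mul_cancel₀ hd, one_smul]

variable [Fintype F]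

theorem diagAut_eq_of_smul {g h : GL (Fin 2) F} {c : F} (hc : h.1 = c • g.1) :
    (diagAut h : MulAut (PSLg 2 F)) = diagAut g := by
  have hc0 : c ≠ 0 := by
    rintro rfl
    rw [zero_smul] at hc
    exact (isUnit_iff_ne_zero.1 ((Matrix.isUnit_iff_isUnit_det _).1 h.isUnit)) (by rw [hc]; simp)
  ext x
  induction x using QuotientGroup.induction_on with
  | H s =>
    rw [diagAut_mk, diagAut_mk]
    refine congrArg QuotientGroup.mk (Subtype.ext ?_)
    rw [conjSL_coe, conjSL_coe]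
    have hi : (h⁻¹ : GL (Fin 2) F).1 = c⁻¹ • (g⁻¹ : GL (Fin 2) F).1 := by
      refine (left_inv_eq_right_inv (show (c⁻¹ • (g⁻¹ : GL (Fin 2) F).1) * h.1 = 1 from ?_) h.mul_inv).symm
      rw [hc, Matrix.smul_mul, Matrix.mul_smul, smul_smul, inv_mul_cancel₀ hc0, one_smul, g.inv_mul]
    rw [hi, hc, Matrix.smul_mul, Matrix.smul_mul, Matrix.mul_smul, smul_smul, mul_inv_cancel₀ hc0, one_smul]

theorem exists_traceless {n : ℕ} (hF : Fintype.card F = 3 ^ (2 * n + 1)) {β : MulAut (PSLg 2 F)}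
    (h2 : β ^ 2 = 1) (hβ : β ≠ 1) : ∃ g : GL (Fin 2) F, g.1 1 1 = -g.1 0 0 ∧ β = diagAut g := by
  haveI : Fact (Nat.Prime 3) := ⟨Nat.prime_three⟩
  obtain ⟨g, σ, rfl⟩ := aut_eq_two β
  have e : diagAut g * fieldAut σ * (diagAut g * fieldAut σ) =
      diagAut (g * Matrix.GeneralLinearGroup.map σ.toRingHom g) * (fieldAut (σ * σ) : MulAut (PSLg 2 F)) := by
    rw [map_mul, map_mul, mul_assoc, ← mul_assoc (fieldAut σ), fieldAut_diagAut]
    simp only [mul_assoc]
  rw [pow_two, e] at h2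
  have hσ2 := (semilinear_eq_one le_rfl h2).2
  have hσ : σ = 1 := by
    have h1 : σ ^ (2 * n + 1) = 1 := by
      rw [← card_ringAut (p := 3) hF]; exact pow_card_eq_one'
    rw [pow_succ, pow_mul, pow_two, show σ * σ = 1 from hσ2, one_pow, one_mul] at h1
    exact h1
  subst hσ
  rw [map_one, mul_one] at hβ ⊢
  simp only [mul_one, map_one] at h2
  obtain ⟨c, hc⟩ := (semilinear_eq_one (σ := RingEquiv.refl F) le_rfl (g := g * _) (by
    rw [show (RingEquiv.refl F) = (1 : F ≃+* F) from rfl, map_one, mul_one]; exact h2)).1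
  refine ⟨g, trace_of_sq_scalar (c := (c : F)) ?_ (fun d hd => hβ ?_), rfl⟩
  · rw [← hc]
    rfl
  · rw [← map_one (diagAut (n := 2) (F := F))]
    exact diagAut_eq_of_smul (g := 1) (c := d) (by simpa using hd)

/-- The element inverted by `h` and fixed by `g`. -/
theorem exists_torus_element {n : ℕ} (hn : 1 ≤ n) (hF : Fintype.card F = 3 ^ (2 * n + 1))
    {g h : GL (Fin 2) F} (hg : g.1 1 1 = -g.1 0 0) (hdet : g.1.det = 1) (hgh : g.1 * h.1 = -(h.1 * g.1)) :
    ∃ x : PSLg 2 F, x ≠ 1 ∧ Odd (orderOf x) ∧ diagAut g x = x ∧ diagAut h x = x⁻¹ := by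
  classical
  haveI : Fact (Nat.Prime 3) := ⟨Nat.prime_three⟩
  haveI : CharP F 3 := by
    refine (CharP.charP_iff_prime_eq_zero Nat.prime_three).2 ?_
    have h1 : ((3 : ℕ) : F) ^ (2 * n + 1) = 0 := by rw [← Nat.cast_pow, ← hF, Nat.cast_card_eq_zero]
    exact pow_eq_zero_iff (by omega) |>.1 h1
  have h2 : (2 : F) ≠ 0 := fun e => by
    have h3 := (CharP.cast_eq_zero_iff F 3 2).1 (by exact_mod_cast e)
    norm_num at h3
  have hg2 : g.1 * g.1 = (-1 : F) • (1 : M2) := by rw [mul_self_of_trace hg, hdet]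
  have hq27 : 27 ≤ Fintype.card F := by
    rw [hF]; exact le_trans (by norm_num) (Nat.pow_le_pow_right (by norm_num) (show 3 ≤ 2 * n + 1 by omega))
  have hq4 : Fintype.card F % 8 = 3 := by
    rw [hF, pow_succ, pow_mul, Nat.mul_mod, Nat.pow_mod]
    norm_num
  obtain ⟨t, ht⟩ : ∃ t : F, t ≠ 0 ∧ t ≠ 1 ∧ t ≠ -1 := by
    by_contra! hcon
    have : (Finset.univ : Finset F) ⊆ {0, 1, -1} := fun t _ => by
      by_cases h0 : t = 0
      · simp [h0]
      by_cases h1 : t = 1
      · simp [h1]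
      simp [hcon t h0 h1]
    have := (Finset.card_le_card this).trans Finset.card_le_three
    rw [Finset.card_univ] at this
    omega
  obtain ⟨ht0, ht1, ht1'⟩ := ht
  have hns : ¬ IsSquare (-1 : F) := by
    rw [FiniteField.isSquare_neg_one_iff]
    omega
  have hd : 1 + t ^ 2 ≠ 0 := fun e => hns ⟨t, by linear_combination -e⟩
  set a := (1 - t ^ 2) / (1 + t ^ 2) with hadef
  set b := 2 * t / (1 + t ^ 2) with hbdef
  have hab : a ^ 2 + b ^ 2 = 1 := by
    rw [hadef, hbdef]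
    field_simp
    ring
  have ha : a ≠ 0 := by
    refine div_ne_zero (fun e => ?_) hd
    rcases mul_eq_zero.1 (show (1 - t) * (1 + t) = 0 by linear_combination e) with h | h
    · exact ht1 (by linear_combination -h)
    · exact ht1' (by linear_combination h)
  have hb : b ≠ 0 := div_ne_zero (mul_ne_zero h2 ht0) hd
  set X : M2 := a • (1 : M2) + b • g.1 with hX
  set Y : M2 := a • (1 : M2) - b • g.1 with hY
  have hXdet : X.det = 1 := by
    have hd2 := hdet
    rw [det_fin_two] at hd2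
    rw [hX, det_fin_two]
    simp [hg]
    rw [hg] at hd2
    linear_combination hab + b ^ 2 * hd2
  have hXY : X * Y = 1 := by
    rw [hX, hY]
    simp only [add_mul, mul_sub, Matrix.smul_mul, Matrix.mul_smul, one_mul, mul_one, hg2, smul_smul]
    calc _ = (a ^ 2 + b ^ 2) • (1 : M2) := by module
      _ = 1 := by rw [hab, one_smul]
  have hXq : X ^ Fintype.card F = Y := by
    haveI : CharP M2 3 := by
      exact charP_of_injective_ringHom (f := Matrix.scalar (Fin 2)) (fun x y e => Matrix.scalar_inj.1 e) 3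
    rw [hX, hF, add_pow_char_pow_of_commute (p := 3) (h := ((Commute.one_left g.1).smul_left a).smul_right b),
      smul_pow, smul_pow, one_pow, ← hF, FiniteField.pow_card, FiniteField.pow_card]
    obtain ⟨k, hk⟩ : ∃ k, Fintype.card F = 4 * k + 3 := ⟨Fintype.card F / 4, by omega⟩
    have hg4 : g.1 ^ 4 = 1 := by
      rw [show 4 = 2 * 2 from rfl, pow_mul, pow_two g.1, hg2, pow_two, Matrix.smul_mul, one_mul, smul_smul]
      simp
    rw [hk, pow_add, pow_mul, hg4, one_pow, one_mul, pow_succ, pow_two, hg2, hY, Matrix.smul_mul, one_mul]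
    module
  have hgne : g.1 ≠ 0 := g.ne_zero
  let xS : SLg 2 F := ⟨X, hXdet⟩
  obtain ⟨j, hj⟩ : ∃ j, Fintype.card F + 1 = 4 * j := ⟨(Fintype.card F + 1) / 4, by omega⟩
  have hjodd : Odd j := Nat.odd_iff.2 (by omega)
  have hxi : xS⁻¹.1 = Y := by
    refine (left_inv_eq_right_inv ?_ hXY)
    rw [← Matrix.SpecialLinearGroup.coe_mul xS⁻¹ xS, inv_mul_cancel]
    rfl
  have hxq1 : xS ^ (4 * j) = 1 := by
    apply Subtype.ext
    show X ^ (4 * j) = 1
    rw [← hj, pow_succ', hXq, hXY]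
  set z := xS ^ 4 with hz
  have hzj : z ^ j = 1 := by rw [hz, ← pow_mul]; exact hxq1
  have hz1 : z ≠ 1 := by
    intro e
    have e' : xS ^ 2 = xS⁻¹ ^ 2 := by
      rw [inv_pow, eq_inv_iff_mul_eq_one, ← pow_add]
      exact e
    have e2 : (xS ^ 2).1 = ((xS⁻¹) ^ 2).1 := congrArg Subtype.val e'
    change X ^ 2 = xS⁻¹.1 ^ 2 at e2
    rw [hxi, pow_two, pow_two, hX, hY] at e2
    simp only [add_mul, mul_add, sub_mul, mul_sub, Matrix.smul_mul, Matrix.mul_smul, one_mul, mul_one, smul_smul] at e2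
    have h4 : (4 * (a * b)) • g.1 = 0 := by
      rw [← sub_eq_zero] at e2
      rw [← e2]
      module
    have h40 : (4 : F) ≠ 0 := by
      rw [show (4 : F) = 2 * 2 by norm_num]; exact mul_ne_zero h2 h2
    refine hgne (smul_eq_zero.1 h4 |>.resolve_left (mul_ne_zero h40 (mul_ne_zero ha hb)))
  have hzcoe : z.1 = X ^ 4 := rfl
  refine ⟨QuotientGroup.mk z, fun e => ?_, ?_, ?_, ?_⟩
  · rw [QuotientGroup.eq_one_iff] at e
    obtain ⟨c, hc, hcz⟩ := Matrix.SpecialLinearGroup.mem_center_iff.1 e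
    rw [Fintype.card_fin] at hc
    have hcj : c ^ j = 1 := by
      have h5 := congrArg Subtype.val hzj
      rw [Matrix.SpecialLinearGroup.coe_pow, ← hcz, ← map_pow, Matrix.SpecialLinearGroup.coe_one,
        ← map_one (Matrix.scalar (Fin 2))] at h5
      exact Matrix.scalar_inj.1 h5
    obtain ⟨i, hi⟩ := hjodd
    rw [hi, pow_succ, pow_mul, hc, one_pow, one_mul] at hcj
    apply hz1
    apply Subtype.ext
    rw [← hcz, hcj, map_one]
    rfl
  · refine hjodd.of_dvd_nat (orderOf_dvd_of_pow_eq_one ?_)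
    rw [← QuotientGroup.mk_pow, hzj]
    rfl
  · rw [diagAut_mk]
    refine congrArg QuotientGroup.mk (Subtype.ext ?_)
    rw [conjSL_coe, hzcoe]
    have hc : Commute g.1 (X ^ 4) :=
      (((Commute.one_right g.1).smul_right a).add_right ((Commute.refl g.1).smul_right b)).pow_right 4
    rw [hc.eq, Matrix.mul_assoc, g.mul_inv, Matrix.mul_one]
  · rw [← QuotientGroup.mk_inv, diagAut_mk]
    refine congrArg QuotientGroup.mk ?_
    rw [hz, map_pow, ← inv_pow]
    refine congrArg (· ^ 4) (Subtype.ext ?_)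
    rw [conjSL_coe, hxi]
    have hneg : h.1 * g.1 = -(g.1 * h.1) := by rw [hgh, neg_neg]
    show h.1 * X * (h⁻¹ : GL (Fin 2) F).1 = Y
    rw [hX, Matrix.mul_add, Matrix.mul_smul, Matrix.mul_smul, Matrix.mul_one, hneg, Matrix.add_mul,
      Matrix.smul_mul, Matrix.smul_mul, Matrix.neg_mul, Matrix.mul_assoc, h.mul_inv, Matrix.mul_one, hY,
      smul_neg, sub_eq_add_neg]

theorem witness_psl {n : ℕ} (hF : Fintype.card F = 3 ^ (2 * n + 1)) [IsSimpleGroup (PSLg 2 F)]
    (hQ : ¬ IsMulCommutative (PSLg 2 F)) {A : Subgroup (MulAut (PSLg 2 F))}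
    (hA : Cfsg.IsElementaryAbelian 2 A) (hA1 : A ≠ ⊥) : Witness A := by
  classical
  haveI : Fact (Nat.Prime 2) := ⟨Nat.prime_two⟩
  have hn : 1 ≤ n := by
    by_contra hn0
    obtain rfl : n = 0 := by omega
    have hsl : Nat.card (SL(2, F)) = 24 := by
      simp at hF
      rw [CfsgLib.Linear.card_SL_two, hF]
      norm_num
    have hmul := CfsgLib.Linear.card_PSL_mul (n := Fin 2) (F := F)
    rw [hsl, Fintype.card_fin, hF] at hmul
    have h12 : Nat.card (PSLg 2 F) = 12 := by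
      rw [show Nat.gcd 2 (3 ^ (2 * 0 + 1) - 1) = 2 from by decide] at hmul
      show Nat.card (ProjectiveSpecialLinearGroup (Fin 2) F) = 12
      omega
    haveI := CfsgLib.Char.isSolvable_of_two_primes 2 3 Nat.prime_two Nat.prime_three 12 (PSLg 2 F) h12
      (fun r hr hd => by
        have h12 : r ∣ 2 ^ 2 * 3 := by norm_num; exact hd
        rcases hr.dvd_mul.1 h12 with h | h
        · exact Or.inl ((Nat.prime_dvd_prime_iff_eq hr Nat.prime_two).1 (hr.dvd_of_dvd_pow h))
        · exact Or.inr ((Nat.prime_dvd_prime_iff_eq hr Nat.prime_three).1 h))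
    exact hQ ⟨⟨IsSimpleGroup.comm_iff_isSolvable.2 inferInstance⟩⟩
  obtain ⟨l, hl⟩ := (show IsPGroup 2 A from fun z => ⟨1, Subtype.ext (by rw [pow_one]; exact hA.2 _ z.2)⟩).exists_card_eq
  rcases Nat.lt_or_ge l 2 with hlt | hge
  · refine witness_of_card_two hQ hA ?_
    rcases Nat.le_one_iff_eq_zero_or_eq_one.1 (Nat.lt_succ_iff.1 hlt) with rfl | rfl
    · exact absurd (Subgroup.eq_bot_of_card_eq A (by simpa using hl)) hA1
    · simpa using hl
  have hcomm : ∀ x ∈ A, ∀ y ∈ A, x * y = y * x := fun x hx y hy => by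
    haveI := hA.1; exact setLike_mul_comm hx hy
  have h2 : (2 : F) ≠ 0 := fun e => by
    haveI : Fact (Nat.Prime 3) := ⟨Nat.prime_three⟩
    have h1 : ((3 : ℕ) : F) ^ (2 * n + 1) = 0 := by rw [← Nat.cast_pow, ← hF, Nat.cast_card_eq_zero]
    have h3 : ((3 : ℕ) : F) = 0 := (pow_eq_zero_iff (by omega)).1 h1
    exact one_ne_zero (show (1 : F) = 0 by
      push_cast at h3
      linear_combination h3 - e)
  have key : ∀ β ∈ A, β ≠ 1 → ∃ g : GL (Fin 2) F, g.1 1 1 = -g.1 0 0 ∧ β = diagAut g :=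
    fun β hβ hne => exists_traceless hF (hA.2 β hβ) hne
  have anti : ∀ g h : GL (Fin 2) F, g.1 1 1 = -g.1 0 0 → h.1 1 1 = -h.1 0 0 →
      diagAut g * diagAut h = (diagAut h * diagAut g : MulAut (PSLg 2 F)) →
      g.1 * h.1 = -(h.1 * g.1) ∨ (diagAut h : MulAut (PSLg 2 F)) = diagAut g := by
    intro g h hg hh hc
    rw [← map_mul, ← map_mul, ← mul_inv_eq_one, ← map_inv, ← map_mul] at hc
    obtain ⟨c, hc'⟩ := (semilinear_eq_one (σ := RingEquiv.refl F) le_rfl (g := g * h * (h * g)⁻¹) (by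
      rw [show (RingEquiv.refl F) = (1 : F ≃+* F) from rfl, map_one, mul_one]; exact hc)).1
    have h3 : g.1 * h.1 = (c : F) • (h.1 * g.1) := by
      have h5 : g.1 * h.1 = (g * h * (h * g)⁻¹).1 * (h * g).1 := by
        rw [← Units.val_mul, ← Units.val_mul, inv_mul_cancel_right]
      rw [h5, hc', Matrix.smul_mul, one_mul, Units.val_mul]
    exact (anticomm_or_proportional h2 hg hh h3).imp id fun ⟨c, hc⟩ => diagAut_eq_of_smul hc
  obtain ⟨u, hu, hu1⟩ := A.bot_or_exists_ne_one.resolve_left hA1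
  obtain ⟨v, hv, hv1, hvu⟩ : ∃ v ∈ A, v ≠ 1 ∧ v ≠ u := by
    by_contra! hcon
    have hsub : (A : Set (MulAut (PSLg 2 F))) ⊆ {1, u} := fun w hw => by
      by_cases h : w = 1
      · exact Or.inl h
      · exact Or.inr (hcon w hw h)
    have := Set.ncard_le_ncard hsub (Set.toFinite _)
    rw [← Nat.card_coe_set_eq, Set.ncard_pair (Ne.symm hu1)] at this
    change Nat.card A ≤ 2 at this
    rw [hl] at this
    have := Nat.pow_le_pow_right two_pos hge
    omega
  obtain ⟨g, hg, rfl⟩ := key u hu hu1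
  obtain ⟨h, hh, rfl⟩ := key v hv hv1
  have hgh : g.1 * h.1 = -(h.1 * g.1) :=
    (anti g h hg hh (hcomm _ hu _ hv)).resolve_right hvu
  -- `A` has order four
  have hghtr : (g * h).1 1 1 = -(g * h).1 0 0 := by
    rw [Units.val_mul]
    have e := congrFun (congrFun hgh 0) 0
    simp [Matrix.mul_apply, Fin.sum_univ_two, hg, hh] at e ⊢
    linear_combination e
  have hall : ∀ w ∈ A, w = 1 ∨ w = diagAut g ∨ w = diagAut h ∨ w = diagAut (g * h) := by
    intro w hw
    by_contra! hcon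
    obtain ⟨h1, h2', h3, h4⟩ := hcon
    obtain ⟨k, hk, rfl⟩ := key w hw h1
    have e1 := (anti g k hg hk (hcomm _ hu _ hw)).resolve_right h2'
    have e2 := (anti h k hh hk (hcomm _ hv _ hw)).resolve_right h3
    have e3 : (g * h).1 * k.1 = (1 : F) • (k.1 * (g * h).1) := by
      rw [one_smul, Units.val_mul, Matrix.mul_assoc, e2, Matrix.mul_neg, ← Matrix.mul_assoc, e1,
        Matrix.neg_mul, neg_neg, Matrix.mul_assoc]
    rcases anticomm_or_proportional h2 hghtr hk e3 with e4 | ⟨c, hc⟩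
    · rw [e3, one_smul, ← add_eq_zero_iff_eq_neg, ← two_smul F, smul_eq_zero] at e4
      exact (k * (g * h)).ne_zero (by rw [Units.val_mul]; exact e4.resolve_left h2)
    · exact h4 (diagAut_eq_of_smul hc)
  have hcard4 : Nat.card A = 4 := by
    have h4 : Nat.card A ≤ 4 := by
      have hsub : (A : Set (MulAut (PSLg 2 F))) ⊆
          ↑({1, diagAut g, diagAut h, diagAut (g * h)} : Finset (MulAut (PSLg 2 F))) := fun w hw => by
        rcases hall w hw with h | h | h | h <;> simp [h]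
      have := Set.ncard_le_ncard hsub (Finset.finite_toSet _)
      rw [Set.ncard_coe_finset, ← Nat.card_coe_set_eq] at this
      exact this.trans Finset.card_le_four
    have := Nat.pow_le_pow_right two_pos hge
    omega
  -- choose the inner one
  haveI hchar : Fact (Nat.Prime 3) := ⟨Nat.prime_three⟩
  have hsq : ∃ k k' : GL (Fin 2) F, k.1 1 1 = -k.1 0 0 ∧ IsSquare k.1.det ∧ k.1 * k'.1 = -(k'.1 * k.1) ∧
      diagAut k ∈ A ∧ diagAut k' ∈ A ∧ (diagAut k : MulAut (PSLg 2 F)) ≠ 1 ∧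
        (diagAut k' : MulAut (PSLg 2 F)) ≠ 1 := by
    by_cases hsg : IsSquare g.1.det
    · exact ⟨g, h, hg, hsg, hgh, hu, hv, hu1, hv1⟩
    by_cases hsh : IsSquare h.1.det
    · exact ⟨h, g, hh, hsh, by rw [hgh, neg_neg], hv, hu, hv1, hu1⟩
    refine ⟨g * h, g, hghtr, ?_, ?_, ?_, hu, ?_, hu1⟩
    · rw [Units.val_mul, det_mul]
      have hg0 : g.1.det ≠ 0 := isUnit_iff_ne_zero.1 ((Matrix.isUnit_iff_isUnit_det _).1 g.isUnit)
      have hh0 : h.1.det ≠ 0 := isUnit_iff_ne_zero.1 ((Matrix.isUnit_iff_isUnit_det _).1 h.isUnit)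
      have hr : ringChar F ≠ 2 := fun e => h2 (by
        have := ringChar.spec F 2
        rw [e] at this
        exact_mod_cast this.2 dvd_rfl)
      rw [← quadraticChar_one_iff_isSquare (mul_ne_zero hg0 hh0), map_mul,
        quadraticChar_neg_one_iff_not_isSquare.2 hsg, quadraticChar_neg_one_iff_not_isSquare.2 hsh]
      norm_num
    · rw [Units.val_mul, Matrix.mul_assoc]
      conv_rhs => rw [← neg_neg (g.1 * (g.1 * h.1))]
      rw [show h.1 * g.1 = -(g.1 * h.1) by rw [hgh, neg_neg], Matrix.mul_neg]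
      simp
    · rw [map_mul]; exact A.mul_mem hu hv
    · rw [map_mul]
      intro e
      refine hvu ?_
      rw [eq_inv_of_mul_eq_one_right e]
      exact inv_eq_of_mul_eq_one_right (by rw [← pow_two]; exact hA.2 _ hu)
  obtain ⟨k, k', hk, ⟨s, hs⟩, hkk', hkA, hk'A, hk1, hk'1⟩ := hsq
  have hs0 : s ≠ 0 := by
    rintro rfl
    exact isUnit_iff_ne_zero.1 ((Matrix.isUnit_iff_isUnit_det _).1 k.isUnit) (by simpa using hs)
  set k1 : GL (Fin 2) F := Matrix.GeneralLinearGroup.mkOfDetNeZero (s⁻¹ • k.1) (by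
    rw [det_smul, hs, Fintype.card_fin]; field_simp; simp) with hk1def
  have hk1v : k1.1 = s⁻¹ • k.1 := rfl
  have hdiag : (diagAut k1 : MulAut (PSLg 2 F)) = diagAut k := diagAut_eq_of_smul hk1v
  obtain ⟨x, hx1, hxodd, hxg, hxh⟩ := exists_torus_element hn hF (g := k1) (h := k')
    (by simp [hk1v, hk])
    (by rw [hk1v, det_smul, hs, Fintype.card_fin]; field_simp)
    (by rw [hk1v, Matrix.smul_mul, Matrix.mul_smul, hkk', smul_neg])
  rw [hdiag] at hxg
  have hzc : Nat.card (zpowers (diagAut k : MulAut (PSLg 2 F))) = 2 := by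
    rw [Nat.card_zpowers]; exact orderOf_eq_prime (hA.2 _ hkA) hk1
  refine ⟨zpowers (diagAut k), diagAut k', x, 1, ?_, hk'A, ?_, hxh, hx1, hxodd, ?_, Or.inl rfl⟩
  · refine lt_of_le_of_ne (zpowers_le.2 hkA) fun e => ?_
    rw [e, hcard4] at hzc
    omega
  · intro β hβ
    obtain ⟨i, rfl⟩ := mem_zpowers_iff.1 hβ
    have hfix : zpowers (diagAut k : MulAut (PSLg 2 F)) ≤ MulAction.stabilizer (MulAut (PSLg 2 F)) x :=
      zpowers_le.2 hxg
    exact hfix (zpow_mem (mem_zpowers _) i)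
  · rw [hcard4, hzc, pow_one]

end CfsgLib.LocalEven.SquareBound
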