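import Cfsg.Agent.Lib.LocalEven.SquareBound.Witness
import Cfsg.Agent.Lib.LocalEven.SuzukiBound
import Cfsg.Agent.Lib.SuzukiOut.Main

/-!
# Inverted elements for elementary abelian automorphism groups of `Sz(q)`
-/

set_option autoImplicit false
set_option linter.style.haveILetI false

namespace CfsgLib.LocalEven.SquareBound

open Subgroup CfsgLib.Suzuki

variable {F : Type*} [Field F] [Fintype F] {m : ℕ}

theorem witness_suzuki (h : SzHyp F m) {A : Subgroup (MulAut (Cfsg.Sz F m))}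
    (hA : Cfsg.IsElementaryAbelian 2 A) (hA1 : A ≠ ⊥) : Witness A := by
  classical
  haveI : Fact (Nat.Prime 2) := ⟨Nat.prime_two⟩
  haveI := CfsgLib.Suzuki.isSimpleGroup h
  have hncomm : ∀ z : Cfsg.Sz F m, (∀ y, z * y = y * z) → z = 1 := by
    intro z hz
    have hzc : z ∈ center (Cfsg.Sz F m) := mem_center_iff.2 fun y => (hz y).symm
    rcases IsSimpleGroup.eq_bot_or_eq_top_of_normal (center (Cfsg.Sz F m)) inferInstance with e | e
    · rwa [e, mem_bot] at hzc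
    · exfalso
      have h1 := mem_center_iff.1 (e.ge (mem_top (tS h 1 0))) (dS h (Units.mk0 _ h.exists_ne_zero_one.choose_spec.1))
      have h2 := dS_conj h (Units.mk0 _ h.exists_ne_zero_one.choose_spec.1) 1 0
      rw [h1, mul_inv_cancel_right] at h2
      have h3 := (tS_injective h h2).1
      rw [mul_one] at h3
      exact h.exists_ne_zero_one.choose_spec.2 h3.symm
  set c : Cfsg.Sz F m →* MulAut (Cfsg.Sz F m) := MulAut.conj
  have hinj : Function.Injective c := by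
    rw [← MonoidHom.ker_eq_bot_iff, eq_bot_iff]
    intro z hz
    refine mem_bot.2 (hncomm z fun y => ?_)
    exact mul_inv_eq_iff_eq_mul.1 (DFunLike.congr_fun (show c z = 1 from hz) y)
  -- every element of `A` is inner
  have hinner : ∀ β ∈ A, β ∈ c.range := by
    intro β hβ
    have h2 : ((QuotientGroup.mk β : Cfsg.Out (Cfsg.Sz F m))) ^ 2 = 1 := by
      rw [← QuotientGroup.mk_pow, hA.2 β hβ]; rfl
    have h1 : ((QuotientGroup.mk β : Cfsg.Out (Cfsg.Sz F m))) ^ (2 * m + 1) = 1 := by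
      rw [← CfsgLib.SuzukiOut.card_out h]; exact pow_card_eq_one'
    rw [pow_succ, pow_mul, h2, one_pow, one_mul] at h1
    exact (QuotientGroup.eq_one_iff β).1 h1
  set A0 := A.comap c
  have hA0 : A0.map c = A := by
    rw [map_comap_eq, inf_eq_right]; exact hinner
  have hsq : ∀ g ∈ A0, g * g = 1 := fun g hg => hinj (by
    rw [map_mul, map_one, ← pow_two]; exact hA.2 _ hg)
  have hA0p : IsPGroup 2 A0 := fun g => ⟨1, Subtype.ext (by rw [pow_one, pow_two]; exact hsq _ g.2)⟩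
  obtain ⟨P, hP⟩ := hA0p.exists_le_sylow
  obtain ⟨y, hy⟩ := exists_map_tGroup h P
  -- `|A| ≤ q`
  have hcard : Nat.card A ≤ 2 ^ (2 * m + 1) := by
    rw [← hA0, Nat.card_congr (A0.equivMapOfInjective c hinj).symm.toEquiv, ← h.card, ← Nat.card_eq_fintype_card]
    have hb : ∀ g : A0, ∃ b, y⁻¹ * (g : Cfsg.Sz F m) * y = tS h 0 b := by
      rintro ⟨g, hg⟩
      have hg' := hP hg
      rw [hy, mem_map_conj] at hg'
      obtain ⟨a, b, hab⟩ := hg'
      refine ⟨b, ?_⟩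
      have h1 : tS h a b * tS h a b = 1 := by
        rw [← hab]
        calc y⁻¹ * g * y * (y⁻¹ * g * y) = y⁻¹ * (g * g) * y := by group
          _ = 1 := by rw [hsq g hg]; group
      rw [tS_sq, tS_eq_one] at h1
      have ha : a = 0 := by
        rcases mul_eq_zero.1 h1.2 with h2 | h2
        · exact sig_eq_zero.1 h2
        · exact h2
      rw [hab, ha]
    choose b hb using hb
    refine Nat.card_le_card_of_injective b fun g1 g2 e => Subtype.ext ?_
    have : y⁻¹ * (g1 : Cfsg.Sz F m) * y = y⁻¹ * (g2 : Cfsg.Sz F m) * y := by rw [hb, hb, e]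
    simpa using this
  -- the element of primitive order
  obtain ⟨⟨g0, hg0A⟩, hg0⟩ : ∃ g : A0, g ≠ 1 := by
    by_contra! hcon
    refine hA1 (eq_bot_iff.2 fun β hβ => ?_)
    rw [← hA0] at hβ
    obtain ⟨z, hz, rfl⟩ := hβ
    obtain rfl : z = 1 := congrArg Subtype.val (hcon ⟨z, hz⟩)
    rw [mem_bot]
    exact map_one c
  obtain ⟨r, hr, hR, hrq⟩ := SuzukiBound.exists_prime_RData h
  obtain ⟨d, y1, y2, hd, hdeq⟩ := SuzukiBound.exists_product h hr hrq
  obtain ⟨y0, hy0⟩ := SuzukiBound.exists_conj_of_invol h (hsq g0 hg0A) (fun e => hg0 (Subtype.ext e))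
  set t := tS h 0 1
  have ht : t * t = 1 := by
    show tS h 0 1 * tS h 0 1 = 1
    rw [tS_sq, mul_zero, tS_zero]
  set x := (y0 * y1⁻¹) * d * (y0 * y1⁻¹)⁻¹ with hx
  have hxord : orderOf x = r := by
    rw [hx, show y0 * y1⁻¹ * d * (y0 * y1⁻¹)⁻¹ = MulAut.conj (y0 * y1⁻¹) d from rfl, MulEquiv.orderOf_eq, hd]
  have hr2 : r ≠ 2 := by
    rintro rfl
    have h1 : 2 ∣ (2 ^ (2 * m + 1)) ^ 2 := dvd_pow (dvd_pow_self 2 (by omega)) two_ne_zero
    have := (Nat.dvd_add_right h1).1 hrq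
    norm_num at this
  obtain ⟨l, hl⟩ := (show IsPGroup 2 A from fun z => ⟨1, Subtype.ext (by rw [pow_one]; exact hA.2 _ z.2)⟩).exists_card_eq
  have hlm : l ≤ 2 * m + 1 := by
    rw [hl] at hcard
    exact (Nat.pow_le_pow_iff_right one_lt_two).1 hcard
  refine ⟨⊥, c g0, x, l, bot_lt_iff_ne_bot.2 hA1, hg0A, fun β hβ => by rw [mem_bot.1 hβ]; rfl, ?_, ?_, ?_,
    by rw [hl, card_bot, one_mul], Or.inr ⟨r, 4 * (2 * m + 1), hr, hr2, hxord, hR.prim, by omega⟩⟩
  · show g0 * x * g0⁻¹ = x⁻¹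
    have hti : t⁻¹ = t := inv_eq_of_mul_eq_one_right ht
    have hdi : (y1 * t * y1⁻¹) * d * (y1 * t * y1⁻¹)⁻¹ = d⁻¹ := by
      rw [hdeq]
      simp only [mul_inv_rev, inv_inv, hti]
      calc y1 * t * y1⁻¹ * (y1 * t * y1⁻¹ * (y2 * t * y2⁻¹)) * (y1 * (t * y1⁻¹))
          = y1 * (t * t) * y1⁻¹ * (y2 * t * y2⁻¹) * (y1 * (t * y1⁻¹)) := by group
        _ = y2 * (t * y2⁻¹) * (y1 * (t * y1⁻¹)) := by rw [ht]; group
    rw [hy0, hx]
    calc y0 * t * y0⁻¹ * (y0 * y1⁻¹ * d * (y0 * y1⁻¹)⁻¹) * (y0 * t * y0⁻¹)⁻¹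
        = y0 * y1⁻¹ * ((y1 * t * y1⁻¹) * d * (y1 * t * y1⁻¹)⁻¹) * (y0 * y1⁻¹)⁻¹ := by group
      _ = _ := by rw [hdi]; group
  · intro e
    rw [e, orderOf_one] at hxord
    exact hr.ne_one hxord.symm
  · rw [hxord]; exact hr.odd_of_ne_two hr2

end CfsgLib.LocalEven.SquareBound
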