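import Cfsg.Agent.Lib.LocalEven.SquareBound.Diag
import Cfsg.Agent.Lib.LocalEven.SquareBound.Suzuki
import Cfsg.Agent.Lib.LocalEven.SquareBound.PSL
import Cfsg.Agent.Lib.LocalEven.Involves
import Cfsg.Agent.Lib.Components.GenFitting
import Cfsg.Agent.Lib.Components.AutQuotient
import Cfsg.Agent.Lib.Solvable.CoprimeGeneration
import Cfsg.Agent.Lib.FailFact.Offender
import Cfsg.Agent.Lib.PLocal.GlaubermanReplacement

/-!
# Inverted elements in groups without `S₃` whose composition factors are Suzuki or `PSL₂(3^odd)`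
-/

set_option autoImplicit false
set_option linter.style.haveILetI false

namespace CfsgLib.LocalEven.SquareBound

open Subgroup CfsgLib.Components

universe u

variable {Γ : Type u} [Group Γ] [Finite Γ]

theorem inverter_of_index_two (hS3 : ¬ Cfsg.Involves (Equiv.Perm (Fin 3)) Γ) {A B : Subgroup Γ}
    (hA : Cfsg.IsElementaryAbelian 2 A) (hBA : B < A) (hcard : Nat.card A = Nat.card B * 2) {a k : Γ}
    (ha : a ∈ A) (hcomm : ∀ b ∈ B, b * k = k * b) (hk : k ≠ 1) (hodd : Odd (orderOf k))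
    (hak : a * k * a⁻¹ = k⁻¹) : Inverter A := by
  haveI : Fact (Nat.Prime 3) := ⟨Nat.prime_three⟩
  obtain ⟨q, hq, hqd⟩ := Nat.exists_prime_and_dvd (fun h => hk (orderOf_eq_one_iff.1 h))
  have hord : orderOf (k ^ (orderOf k / q)) = q := orderOf_pow_orderOf_div (orderOf_pos k).ne' hqd
  have hinv : a * k ^ (orderOf k / q) * a⁻¹ = (k ^ (orderOf k / q))⁻¹ := by
    rw [← conj_pow, hak, inv_pow]
  have hq2 : q ≠ 2 := by
    rintro rfl
    exact Nat.not_even_iff_odd.2 hodd (even_iff_two_dvd.2 hqd)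
  have hq3 : q ≠ 3 := by
    rintro rfl
    obtain ⟨K, f, hf⟩ := exists_surjective_of_involves (involves_dihedral (p := 3) (by norm_num)
      (x := a) (by
        rcases (Nat.dvd_prime Nat.prime_two).1 (orderOf_dvd_of_pow_eq_one (hA.2 a ha)) with h | h
        · exact ⟨0, by rw [h, pow_zero]⟩
        · exact ⟨1, by rw [h, pow_one]⟩)
      (y := k ^ (orderOf k / 3)) ⟨1, by rw [pow_one]; exact hord⟩
      (fun h => by rw [h, orderOf_one] at hord; norm_num at hord) hinv)
    exact hS3 (involves_of_surjective K (dihedralThreeEquiv.toMonoidHom.comp f)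
      (dihedralThreeEquiv.surjective.comp hf))
  have h4 : q ≠ 4 := by rintro rfl; norm_num at hq
  refine ⟨B, a, _, q, 3, 1, hBA, ha, fun b hb => ?_, hinv, hord, hq, hq2, prim_three ?_, by rw [pow_one]; exact hcard,
    by norm_num⟩
  · exact ((show Commute b k from hcomm b hb).pow_right _).eq
  · have := hq.two_le; omega

theorem card_eq_mul_two {A B : Subgroup Γ} (hA : Cfsg.IsElementaryAbelian 2 A) (hBA : B ≤ A) {a : Γ}
    (ha : a ∈ A) (haB : a ∉ B) (hsplit : ∀ x ∈ A, x ∈ B ∨ a * x ∈ B) : Nat.card A = Nat.card B * 2 := by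
  haveI : Fact (Nat.Prime 2) := ⟨Nat.prime_two⟩
  haveI := hA.1
  have hsq : a * a = 1 := by rw [← pow_two]; exact hA.2 a ha
  have hsup : B ⊔ zpowers a = A := by
    refine le_antisymm (sup_le hBA (zpowers_le.2 ha)) fun x hx => ?_
    rcases hsplit x hx with h | h
    · exact mem_sup_left h
    · have : x = a⁻¹ * (a * x) := by group
      rw [this]
      exact mul_mem (mem_sup_right (inv_mem (mem_zpowers a))) (mem_sup_left h)
  have hinf : B ⊓ zpowers a = ⊥ := by
    rw [eq_bot_iff]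
    rintro y ⟨hy, hy'⟩
    obtain ⟨i, rfl⟩ := mem_zpowers_iff.1 hy'
    rcases Int.even_or_odd i with ⟨j, rfl⟩ | ⟨j, rfl⟩
    · rw [zpow_add, ← Commute.mul_zpow (Commute.refl a), hsq, one_zpow]; exact one_mem _
    · exfalso
      apply haB
      rw [zpow_add, two_mul, zpow_add, ← Commute.mul_zpow (Commute.refl a), hsq, one_zpow, one_mul,
        zpow_one] at hy
      exact hy
  have hle : B ≤ normalizer (zpowers a : Set Γ) := fun b hb => by
    refine centralizer_le_normalizer _ (fun y hy => ?_)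
    exact setLike_mul_comm (zpowers_le.2 ha hy) (hBA hb)
  have := CfsgLib.PLoc.card_sup_mul_card_inf hle
  rw [hsup, hinf, card_bot, mul_one, Nat.card_zpowers,
    orderOf_eq_prime (hA.2 a ha) (fun h => haB (h ▸ one_mem B))] at this
  exact this

/-- Without hyperplane witnesses, `A` centralises every subgroup of odd order it normalises. -/
theorem le_centralizer_of_no_inverter (hS3 : ¬ Cfsg.Involves (Equiv.Perm (Fin 3)) Γ) {A : Subgroup Γ}
    (hA : Cfsg.IsElementaryAbelian 2 A) (hno : ¬ Inverter A) {K : Subgroup Γ} (hK : Odd (Nat.card K))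
    (hAK : A ≤ normalizer (K : Set Γ)) : A ≤ centralizer (K : Set Γ) := by
  haveI := hA.1
  haveI : Fact (Nat.Prime 2) := ⟨Nat.prime_two⟩
  rw [le_centralizer_iff]
  have hcop : (Nat.card A).Coprime (Nat.card K) := by
    obtain ⟨l, hl⟩ := (show IsPGroup 2 A from fun z => ⟨1, Subtype.ext (by rw [pow_one]; exact hA.2 _ z.2)⟩).exists_card_eq
    rw [hl]
    exact Nat.Coprime.pow_left _ (Nat.coprime_two_left.2 hK)
  refine CfsgLib.Solvable.le_of_cyclic_quotient_centralizer_le hAK hcop fun B hB ⟨a, ha, hAB⟩ x hx => ?_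
  by_cases haB : a ∈ B
  · intro y hy
    exact hx.2 y (sup_le le_rfl (zpowers_le.2 haB) (hAB hy))
  have hax : a * x * a⁻¹ = x := by
    by_contra hne
    apply hno
    obtain ⟨B', hBB', hB'A, haB', hsplit⟩ := ea_hyperplane hA hB ha haB
    have hB'B : B' ≤ B := by
      intro b hb
      have h := hAB (hB'A hb)
      rw [← SetLike.mem_coe, coe_mul_of_right_le_normalizer_left] at h
      · obtain ⟨u, hu, w, hw, rfl⟩ := h
        obtain ⟨i, rfl⟩ := mem_zpowers_iff.1 hw
        rcases Int.even_or_odd i with ⟨j, rfl⟩ | ⟨j, rfl⟩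
        · show u * a ^ (j + j) ∈ B
          rw [zpow_add, ← Commute.mul_zpow (Commute.refl a), ← pow_two, hA.2 a ha, one_zpow, mul_one]
          exact hu
        · exfalso
          apply haB'
          change u * a ^ (2 * j + 1) ∈ B' at hb
          rw [zpow_add, zpow_one, two_mul, zpow_add, ← Commute.mul_zpow (Commute.refl a), ← pow_two, hA.2 a ha,
            one_zpow, one_mul] at hb
          simpa using B'.mul_mem (B'.inv_mem (hBB' hu)) hb
      · refine zpowers_le.2 (centralizer_le_normalizer _ fun y hy => ?_)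
        exact setLike_mul_comm (hB hy) ha
    obtain rfl : B' = B := le_antisymm hB'B hBB'
    set y := x⁻¹ * (a * x * a⁻¹)
    have hay : a * y * a⁻¹ = y⁻¹ := by
      have h2 : a * a = 1 := by rw [← pow_two]; exact hA.2 a ha
      calc a * y * a⁻¹ = (a * x * a⁻¹)⁻¹ * ((a * a) * x * (a * a)⁻¹) := by simp only [y]; group
        _ = y⁻¹ := by rw [h2]; simp only [y]; group
    refine inverter_of_index_two hS3 hA (lt_of_le_of_ne hB fun e => haB (e ▸ ha))
      (card_eq_mul_two hA hB ha haB hsplit) ha (fun b hb => ?_) (fun h => hne (inv_mul_eq_one.1 h).symm) ?_ hay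
    · have e1 : Commute b x := hx.2 b hb
      have e2 : Commute b a := setLike_mul_comm (hB hb) ha
      exact e1.inv_right.mul_right ((e2.mul_right e1).mul_right e2.inv_right)
    · have hyK : y ∈ K := K.mul_mem (K.inv_mem hx.1) ((mem_normalizer_iff.1 (hAK ha) x).1 hx.1)
      exact hK.of_dvd_nat (Subgroup.orderOf_dvd_natCard _ hyK)
  intro y hy
  have hle : A ≤ centralizer {x} := hAB.trans (sup_le
    (fun b hb => mem_centralizer_singleton_iff.2 (hx.2 b hb))
    (zpowers_le.2 (mem_centralizer_singleton_iff.2 (mul_inv_eq_iff_eq_mul.1 hax))))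
  exact mem_centralizer_singleton_iff.1 (hle hy)

/-- The witnesses on the central quotient of a component. -/
theorem witness_of_component {L : Subgroup Γ}
    (hK : ¬ IsMulCommutative (↥L ⧸ center ↥L) → Cfsg.IsSuzukiOrPSL2OddPowerThree (↥L ⧸ center ↥L))
    (hL : Cfsg.IsComponent L) {A : Subgroup (MulAut (↥L ⧸ center ↥L))}
    (hA : Cfsg.IsElementaryAbelian 2 A) (hA1 : A ≠ ⊥) : Witness A := by
  haveI := hL.2.2
  have hnc : ¬ IsMulCommutative (↥L ⧸ center ↥L) := fun h => by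
    haveI := hL.2.1
    haveI := h
    haveI := quasisimple_nontrivial hL.2
    refine center_ne_top (G := ↥L) ?_
    rw [eq_top_iff, ← Group.IsPerfect.commutator_eq_top (G := ↥L), _root_.commutator_def, commutator_le]
    intro x _ y _
    rw [← QuotientGroup.eq_one_iff, ← QuotientGroup.mk'_apply, map_commutatorElement,
      commutatorElement_eq_one_iff_commute]
    exact mul_comm' _ _
  have hmap : ∀ {Q' : Type} [Group Q'] (e : (↥L ⧸ center ↥L) ≃* Q'),
      Cfsg.IsElementaryAbelian 2 (A.map (MulAut.congr e).toMonoidHom) ∧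
        A.map (MulAut.congr e).toMonoidHom ≠ ⊥ := by
    intro Q' _ e
    refine ⟨⟨⟨⟨?_⟩⟩, ?_⟩, fun h => hA1 ((map_eq_bot_iff_of_injective _ (MulAut.congr e).injective).1 h)⟩
    · rintro ⟨_, x, hx, rfl⟩ ⟨_, y, hy, rfl⟩
      refine Subtype.ext ?_
      haveI := hA.1
      show MulAut.congr e x * MulAut.congr e y = MulAut.congr e y * MulAut.congr e x
      rw [← map_mul, ← map_mul, setLike_mul_comm hx hy]
    · rintro _ ⟨x, hx, rfl⟩
      rw [← map_pow, hA.2 x hx, map_one]
  rcases hK hnc with ⟨F, iF, iF', m, hm, hF, ⟨e⟩⟩ | ⟨F, iF, iF', n, hF, ⟨e⟩⟩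
  · letI := iF
    letI := iF'
    have h : CfsgLib.Suzuki.SzHyp F m := ⟨hm, hF⟩
    refine witness_congr (e.trans (CfsgLib.SuzukiMatrix.szEquiv h).symm) ?_
    exact witness_suzuki h (hmap _).1 (hmap _).2
  · letI := iF
    letI := iF'
    haveI := (e.isSimpleGroup_congr).1 inferInstance
    refine witness_congr e ?_
    refine witness_psl hF (fun h => hnc ?_) (hmap _).1 (hmap _).2
    haveI := h
    exact ⟨⟨fun x y => e.injective (by rw [map_mul, map_mul, mul_comm'])⟩⟩

/-- A witness for the action of `A ⊓ N(L)` on a component lifts to `L`. -/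
theorem exists_component_element {L : Subgroup Γ}
    (hK : ¬ IsMulCommutative (↥L ⧸ center ↥L) → Cfsg.IsSuzukiOrPSL2OddPowerThree (↥L ⧸ center ↥L))
    (hL : Cfsg.IsComponent L) {AL : Subgroup Γ} (hAL : Cfsg.IsElementaryAbelian 2 AL)
    (hALN : AL ≤ normalizer (L : Set Γ)) (hALZ : ∀ a ∈ AL, ∀ z ∈ L, (∀ y ∈ L, z * y = y * z) → a * z = z * a)
    (hne : ¬ AL ≤ centralizer (L : Set Γ)) :
    ∃ (BL : Subgroup Γ) (a x : Γ) (m : ℕ), BL ≤ AL ∧ a ∈ AL ∧ x ∈ L ∧ x ∉ centralizer (L : Set Γ) ∧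
      (∀ b ∈ BL, b * x = x * b) ∧ a * x * a⁻¹ = x⁻¹ ∧ Odd (orderOf x) ∧
      Nat.card AL = Nat.card BL * 2 ^ m ∧
      (m = 1 ∨ ∃ r N : ℕ, r.Prime ∧ r ≠ 2 ∧ orderOf x = r ∧ Prim r N ∧ 4 * m ≤ N + 1) := by
  haveI : Group.IsPerfect ↥L := hL.2.1
  haveI := hAL.1
  let φ : AL →* MulAut (↥L ⧸ center ↥L) :=
    (CfsgLib.AutPSL.descend.comp (normalizerMonoidHom L)).comp (inclusion hALN)
  have hφ : ∀ (a : AL) (y : L), φ a (QuotientGroup.mk y) =
      QuotientGroup.mk (⟨(a : Γ) * y * (a : Γ)⁻¹, (mem_normalizer_iff.1 (hALN a.2) _).1 y.2⟩ : L) :=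
    fun a y => rfl
  have hrange : Cfsg.IsElementaryAbelian 2 φ.range := by
    refine ⟨⟨⟨?_⟩⟩, ?_⟩
    · rintro ⟨_, x, rfl⟩ ⟨_, y, rfl⟩
      refine Subtype.ext ?_
      show φ x * φ y = φ y * φ x
      rw [← map_mul, ← map_mul, show x * y = y * x from Subtype.ext (setLike_mul_comm x.2 y.2)]
    · rintro _ ⟨x, rfl⟩
      rw [← map_pow, show x ^ 2 = 1 from Subtype.ext (hAL.2 x x.2), map_one]
  have hne' : φ.range ≠ ⊥ := by
    intro h
    apply hne
    intro a ha y hy
    have h1 : normalizerMonoidHom L (inclusion hALN ⟨a, ha⟩) = 1 := by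
      apply CfsgLib.Components.descend_injective (G := ↥L)
      rw [map_one]
      have h3 : φ ⟨a, ha⟩ = 1 := by rw [MonoidHom.range_eq_bot_iff.1 h, MonoidHom.one_apply]
      simpa only [φ, MonoidHom.comp_apply] using h3
    have h2 : a * y * a⁻¹ = y := congrArg Subtype.val (DFunLike.congr_fun h1 (⟨y, hy⟩ : L))
    exact (mul_inv_eq_iff_eq_mul.1 h2).symm
  obtain ⟨Bb, α, xb, m, hBb, ⟨⟨a, ha⟩, rfl⟩, hfix, hinv, hx1, hxodd, hcard, hlast⟩ :=
    witness_of_component hK hL hrange hne'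
  set B0 := Bb.comap φ
  set BL := B0.map AL.subtype
  have hcardB : Nat.card AL = Nat.card BL * 2 ^ m := by
    have h1 : Nat.card BL = Nat.card B0 := (Nat.card_congr (B0.equivMapOfInjective _ AL.subtype_injective).toEquiv).symm
    have h2 : B0.index = Bb.relIndex φ.range := Subgroup.index_comap Bb φ
    have h3 := B0.card_mul_index
    have h4 : Nat.card Bb * Bb.relIndex φ.range = Nat.card φ.range := by
      have := relIndex_mul_relIndex ⊥ Bb φ.range bot_le hBb.le
      simpa [relIndex_bot_left] using this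
    rw [hcard] at h4
    have h5 : Bb.relIndex φ.range = 2 ^ m := Nat.eq_of_mul_eq_mul_left Nat.card_pos h4
    rw [h1, ← h3, h2, h5]
  -- lift with controlled order
  obtain ⟨x0, hx0⟩ := QuotientGroup.mk_surjective xb
  obtain ⟨e, x2, hx2, he, hodd2, hprime⟩ : ∃ (e : ℕ) (x2 : L), x2 = x0 ^ e ∧ (orderOf xb).Coprime e ∧
      Odd (orderOf x2) ∧ ∀ r : ℕ, r.Prime → orderOf xb = r → ∃ i, orderOf x2 = r ^ i := by
    by_cases hp : (orderOf xb).Prime
    · obtain ⟨i, o, ho, hio⟩ := Nat.exists_eq_pow_mul_and_not_dvd (orderOf_pos x0).ne' (orderOf xb) hp.ne_one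
      have hord : orderOf (x0 ^ o) = orderOf xb ^ i := by
        rw [orderOf_pow' _ (fun h => ho (by rw [h]; exact dvd_zero _)), hio, Nat.gcd_eq_right (dvd_mul_left _ _),
          Nat.mul_div_cancel _ (Nat.pos_of_ne_zero fun h => ho (by rw [h]; exact dvd_zero _))]
      exact ⟨o, x0 ^ o, rfl, hp.coprime_iff_not_dvd.2 ho, hord ▸ hxodd.pow, fun r _ hr' => ⟨i, hr' ▸ hord⟩⟩
    · obtain ⟨i, o, ho, hio⟩ := Nat.exists_eq_two_pow_mul_odd (orderOf_pos x0).ne'
      have hord : orderOf (x0 ^ 2 ^ i) = o := by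
        rw [orderOf_pow' _ (by positivity), hio, Nat.gcd_eq_right (dvd_mul_right _ _),
          Nat.mul_div_cancel_left _ (by positivity)]
      exact ⟨2 ^ i, x0 ^ 2 ^ i, rfl, Nat.Coprime.pow_right _ (Nat.coprime_two_right.2 hxodd), hord ▸ ho,
        fun r hr hr' => absurd (hr' ▸ hr) hp⟩
  set xb' := xb ^ e
  have hx2q : (QuotientGroup.mk x2 : ↥L ⧸ center ↥L) = xb' := by rw [hx2, QuotientGroup.mk_pow, hx0]
  have hxb1 : xb' * xb' ≠ 1 := by
    intro h
    rw [← pow_add, ← orderOf_dvd_iff_pow_eq_one, ← two_mul] at h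
    have h2 : orderOf xb ∣ 2 := he.dvd_of_dvd_mul_right h
    rcases (Nat.dvd_prime Nat.prime_two).1 h2 with h3 | h3
    · exact hx1 (orderOf_eq_one_iff.1 h3)
    · rw [h3] at hxodd; exact absurd hxodd (by decide)
  have ha2 : a * a = 1 := by rw [← pow_two]; exact hAL.2 a ha
  set xa : L := ⟨a * x2 * a⁻¹, (mem_normalizer_iff.1 (hALN ha) _).1 x2.2⟩
  have hxa : (QuotientGroup.mk xa : ↥L ⧸ center ↥L) = xb'⁻¹ := by
    rw [← hφ ⟨a, ha⟩ x2, hx2q]
    show φ ⟨a, ha⟩ (xb ^ e) = (xb ^ e)⁻¹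
    rw [map_pow, hinv, inv_pow]
  have hzmem : ∀ (z : L), (QuotientGroup.mk z : ↥L ⧸ center ↥L) = 1 → ∀ y ∈ L, (z : Γ) * y = y * z :=
    fun z hz y hy => congrArg Subtype.val (mem_center_iff.1 ((QuotientGroup.eq_one_iff z).1 hz) ⟨y, hy⟩).symm
  have hcomm2 : Commute (x2 : Γ) (xa : Γ) := by
    have h1 := hzmem (x2 * xa) (by rw [QuotientGroup.mk_mul, hx2q, hxa, mul_inv_cancel]) x2 x2.2
    change (x2 : Γ) * xa * x2 = x2 * (x2 * xa) at h1
    rw [mul_assoc] at h1
    exact (mul_left_cancel h1).symm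
  set y : Γ := (x2 : Γ)⁻¹ * xa
  have hyL : y ∈ L := mul_mem (inv_mem x2.2) xa.2
  have hay : a * y * a⁻¹ = y⁻¹ := by
    calc a * y * a⁻¹ = (a * (x2 : Γ) * a⁻¹)⁻¹ * ((a * a) * x2 * (a * a)⁻¹) := by
          show a * ((x2 : Γ)⁻¹ * (a * x2 * a⁻¹)) * a⁻¹ = _
          group
      _ = y⁻¹ := by rw [ha2, one_mul, inv_one, mul_one]; show _ = ((x2 : Γ)⁻¹ * (a * x2 * a⁻¹))⁻¹; group
  have hyord : orderOf y ∣ orderOf x2 := by
    apply orderOf_dvd_of_pow_eq_one
    rw [hcomm2.inv_left.mul_pow, inv_pow]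
    show _ * (a * (x2 : Γ) * a⁻¹) ^ orderOf x2 = 1
    rw [conj_pow, ← SubmonoidClass.coe_pow, pow_orderOf_eq_one]
    simp
  have hyodd : Odd (orderOf y) := hodd2.of_dvd_nat hyord
  have hy1 : y ≠ 1 := by
    intro h
    apply hxb1
    have : xa = x2 := Subtype.ext ((inv_mul_eq_one.1 h).symm)
    rw [this, hx2q] at hxa
    exact eq_inv_iff_mul_eq_one.1 hxa
  have hinvnot : ∀ w : Γ, w ∈ L → a * w * a⁻¹ = w⁻¹ → Odd (orderOf w) → w ≠ 1 → w ∉ centralizer (L : Set Γ) := by
    intro w hwL hw hwodd hw1 hwc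
    have h1 : a * w = w * a := hALZ a ha w hwL fun u hu => (hwc u hu).symm
    rw [h1, mul_inv_cancel_right, eq_inv_iff_mul_eq_one, ← pow_two, ← orderOf_dvd_iff_pow_eq_one] at hw
    rcases (Nat.dvd_prime Nat.prime_two).1 hw with h3 | h3
    · exact hw1 (orderOf_eq_one_iff.1 h3)
    · rw [h3] at hwodd; exact absurd hwodd (by decide)
  have hBx : ∀ b ∈ BL, b * y = y * b := by
    rintro _ ⟨⟨b, hb⟩, hbB, rfl⟩
    show b * y = y * b
    set xc : L := ⟨b * x2 * b⁻¹, (mem_normalizer_iff.1 (hALN hb) _).1 x2.2⟩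
    have hxc : (QuotientGroup.mk xc : ↥L ⧸ center ↥L) = xb' := by
      rw [← hφ ⟨b, hb⟩ x2, hx2q]
      show φ ⟨b, hb⟩ (xb ^ e) = xb ^ e
      rw [map_pow, hfix _ hbB]
    set z : L := x2⁻¹ * xc
    have hz := hzmem z (by rw [QuotientGroup.mk_mul, QuotientGroup.mk_inv, hx2q, hxc, inv_mul_cancel])
    have hzb : b * (z : Γ) = z * b := hALZ b hb z z.2 hz
    have hb2 : b * b = 1 := by rw [← pow_two]; exact hAL.2 b hb
    have hbx : b * (x2 : Γ) * b⁻¹ = x2 * z := by
      show _ = (x2 : Γ) * ((x2 : Γ)⁻¹ * (b * x2 * b⁻¹))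
      group
    have hzsq : (z : Γ) * z = 1 := by
      have h1 : (x2 : Γ) = x2 * z * z := by
        calc (x2 : Γ) = b * (b * x2 * b⁻¹) * b⁻¹ := by
              rw [show b * (b * (x2 : Γ) * b⁻¹) * b⁻¹ = (b * b) * x2 * (b * b)⁻¹ by group, hb2]; simp
          _ = b * (x2 * z) * b⁻¹ := by rw [hbx]
          _ = (b * x2 * b⁻¹) * (b * z * b⁻¹) := by group
          _ = x2 * z * z := by rw [hzb, mul_inv_cancel_right, hbx]
      rwa [mul_assoc, left_eq_mul] at h1
    have hzpow : (z : Γ) ^ orderOf x2 = 1 := by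
      have h1 : (b * (x2 : Γ) * b⁻¹) ^ orderOf x2 = 1 := by
        rw [conj_pow, ← SubmonoidClass.coe_pow, pow_orderOf_eq_one]; simp
      rw [hbx, (show Commute (x2 : Γ) z from (hz _ x2.2).symm).mul_pow, ← SubmonoidClass.coe_pow,
        pow_orderOf_eq_one] at h1
      simpa using h1
    have hz1 : (z : Γ) = 1 := by
      obtain ⟨j, hj⟩ := hodd2
      rw [hj, pow_succ, pow_mul, pow_two, hzsq, one_pow, one_mul] at hzpow
      exact hzpow
    rw [hz1, mul_one, mul_inv_eq_iff_eq_mul] at hbx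
    have e1 : Commute b (x2 : Γ) := hbx
    have e2 : Commute b a := setLike_mul_comm hb ha
    exact e1.inv_right.mul_right ((e2.mul_right e1).mul_right e2.inv_right)
  have hBLle : BL ≤ AL := map_subtype_le B0
  rcases hlast with rfl | ⟨r, N, hr, hr2, hrx, hN, hm⟩
  · exact ⟨BL, a, y, 1, hBLle, ha, hyL, hinvnot y hyL hay hyodd hy1, hBx, hay, hyodd, hcardB, Or.inl rfl⟩
  obtain ⟨i, hi⟩ := hprime r hr hrx
  obtain ⟨j, hjle, hj⟩ := (Nat.dvd_prime_pow hr).1 (hi ▸ hyord)
  have hdiv : r ∣ orderOf y := by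
    rw [hj]
    exact dvd_pow_self r fun h => hy1 (orderOf_eq_one_iff.1 (by rw [hj, h, pow_zero]))
  set w := y ^ (orderOf y / r)
  have hwr : orderOf w = r := orderOf_pow_orderOf_div (orderOf_pos y).ne' hdiv
  have haw : a * w * a⁻¹ = w⁻¹ := by rw [← conj_pow, hay, inv_pow]
  have hwodd : Odd (orderOf w) := hwr ▸ hr.odd_of_ne_two hr2
  refine ⟨BL, a, w, m, hBLle, ha, pow_mem hyL _, hinvnot w (pow_mem hyL _) haw hwodd
    (fun h => hr.ne_one (by rw [← hwr, h, orderOf_one])), fun b hb => ?_, haw, hwodd, hcardB,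
    Or.inr ⟨r, N, hr, hr2, hwr, hN, hm⟩⟩
  exact ((show Commute b y from hBx b hb).pow_right _).eq

/-- Every nontrivial elementary abelian 2-subgroup has an inverted element; the composition factors
need only be controlled in even order. -/
theorem exists_inverter_of_even (hO : Cfsg.pCore 2 Γ = ⊥) (hS3 : ¬ Cfsg.Involves (Equiv.Perm (Fin 3)) Γ)
    (hK : ∀ L : Subgroup Γ, Cfsg.IsComponent L → ¬ IsMulCommutative (↥L ⧸ center ↥L) →
      Even (Nat.card (↥L ⧸ center ↥L)) → Cfsg.IsSuzukiOrPSL2OddPowerThree (↥L ⧸ center ↥L)) {A : Subgroup Γ}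
    (hA : Cfsg.IsElementaryAbelian 2 A) (hA1 : A ≠ ⊥) : Inverter A := by
  by_contra hno
  haveI := hA.1
  set Fi := Cfsg.fittingSubgroup Γ
  haveI hFn : Fi.Normal := CfsgLib.Solvable.fittingSubgroup_normal Γ
  have hFodd : Odd (Nat.card Fi) := CfsgLib.FailFact.fitting_odd hO
  have hAF : A ≤ centralizer (Fi : Set Γ) :=
    le_centralizer_of_no_inverter hS3 hA hno hFodd (le_normalizer_of_normal)
  obtain ⟨L, hL, hAL⟩ : ∃ L : Subgroup Γ, Cfsg.IsComponent L ∧ ¬ A ≤ centralizer (L : Set Γ) := by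
    by_contra! hcon
    apply hA1
    have h1 : A ≤ Cfsg.generalizedFittingSubgroup Γ := by
      refine le_trans ?_ centralizer_genFitting_le
      rw [le_centralizer_iff]
      exact sup_le (sSup_le fun L hL => le_centralizer_iff.1 (hcon L hL : A ≤ centralizer (L : Set Γ))) (le_centralizer_iff.1 hAF)
    have hcent : A ≤ centralizer (Cfsg.generalizedFittingSubgroup Γ : Set Γ) := by
      rw [le_centralizer_iff]
      exact sup_le (sSup_le fun L hL => le_centralizer_iff.1 (hcon L hL : A ≤ centralizer (L : Set Γ))) (le_centralizer_iff.1 hAF)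
    -- the centre of `F*` lies in `F`
    set Z := Cfsg.generalizedFittingSubgroup Γ ⊓ centralizer (Cfsg.generalizedFittingSubgroup Γ : Set Γ)
    have hgn : (Cfsg.generalizedFittingSubgroup Γ).Normal := by
      unfold Cfsg.generalizedFittingSubgroup
      infer_instance
    haveI := hgn
    haveI hZn : Z.Normal := inferInstance
    have hZab : ∀ u v : Z, u * v = v * u := fun u v => Subtype.ext ((v.2.2 u u.2.1))
    have hZF : Z ≤ Fi := CfsgLib.Solvable.le_fittingSubgroup hZn (CfsgLib.Solvable.isNilpotent_of_comm hZab)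
    rw [eq_bot_iff]
    intro x hx
    have hxF : x ∈ Fi := hZF ⟨h1 hx, hcent hx⟩
    have hd1 : orderOf x ∣ 2 := orderOf_dvd_of_pow_eq_one (hA.2 x hx)
    have hd2 : Odd (orderOf x) := hFodd.of_dvd_nat (Subgroup.orderOf_dvd_natCard _ hxF)
    rcases (Nat.dvd_prime Nat.prime_two).1 hd1 with h3 | h3
    · exact mem_bot.2 (orderOf_eq_one_iff.1 h3)
    · rw [h3] at hd2; exact absurd hd2 (by decide)
  -- a component of odd order is centralised
  have hLeven : Even (Nat.card L) := by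
    by_contra hLodd
    set O := Cfsg.pPrimeCore 2 Γ
    haveI : O.Normal := CfsgLib.Solvable.pPrimeCore_normal 2 Γ
    have hO2 : Odd (Nat.card O) := Nat.coprime_two_right.1 (CfsgLib.Solvable.pPrimeCore_card_coprime 2 Γ)
    exact hAL ((le_centralizer_of_no_inverter hS3 hA hno hO2 le_normalizer_of_normal).trans
      (centralizer_le (le_pPrimeCore_of_isSubnormal hL.1
        (Nat.coprime_two_right.2 (Nat.not_even_iff_odd.1 hLodd)))))
  have hKL : ¬ IsMulCommutative (↥L ⧸ center ↥L) → Cfsg.IsSuzukiOrPSL2OddPowerThree (↥L ⧸ center ↥L) := by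
    refine fun hn => hK L hL hn ?_
    have hZ : (center ↥L).map L.subtype ≤ Fi := by
      refine le_fitting_of_solvable_subnormal ((Subgroup.Normal.isSubnormal inferInstance).trans' hL.1) ?_ ?_
      · haveI := CfsgLib.Solvable.isNilpotent_of_comm (K := ↥(center ↥L)) (fun a b => Subtype.ext (mem_center_iff.1 b.2 a))
        exact Group.isSolvable_of_surjective
          (f := ((center ↥L).equivMapOfInjective L.subtype L.subtype_injective).toMonoidHom) (MulEquiv.surjective _)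
      · exact (map_subtype_le _).trans (le_centralizer_of_commutator_eq_bot (component_commutator_fitting hL))
    have hZodd : Odd (Nat.card (center ↥L)) := by
      rw [← Nat.card_congr ((center ↥L).equivMapOfInjective L.subtype L.subtype_injective).toEquiv.symm]
      exact hFodd.of_dvd_nat (card_dvd_of_le hZ)
    rw [(center ↥L).card_eq_card_quotient_mul_card_subgroup, Nat.even_mul] at hLeven
    exact hLeven.resolve_right (Nat.not_even_iff_odd.2 hZodd)
  set AL := A ⊓ normalizer (L : Set Γ)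
  have hALea : Cfsg.IsElementaryAbelian 2 AL :=
    ⟨⟨⟨fun u v => Subtype.ext (setLike_mul_comm u.2.1 v.2.1)⟩⟩, fun u hu => hA.2 u hu.1⟩
  by_cases hC : AL ≤ centralizer (L : Set Γ)
  · -- `L` is moved
    obtain ⟨a, haA, haN⟩ : ∃ a ∈ A, a ∉ normalizer (L : Set Γ) := by
      by_contra! hcon
      exact hAL fun u hu => hC ⟨hu, hcon u hu⟩
    obtain ⟨B, hALB, hBA, haB, hsplit⟩ := ea_hyperplane hA (C := AL) inf_le_left haA (fun h => haN h.2)
    have hBea : Cfsg.IsElementaryAbelian 2 B :=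
      ⟨⟨⟨fun u v => Subtype.ext (setLike_mul_comm (hBA u.2) (hBA v.2))⟩⟩, fun u hu => hA.2 u (hBA hu)⟩
    obtain ⟨x, hxL, hxc, hxodd⟩ : ∃ x ∈ L, x ∉ centralizer (L : Set Γ) ∧ Odd (orderOf x) := by
      by_contra! hcon
      haveI := hL.2.2
      have h2 : IsPGroup 2 (↥L ⧸ center ↥L) := by
        intro g
        obtain ⟨x, rfl⟩ := QuotientGroup.mk_surjective g
        obtain ⟨i, o, ho, hio⟩ := Nat.exists_eq_two_pow_mul_odd (orderOf_pos x).ne'
        refine ⟨i, ?_⟩
        rw [← QuotientGroup.mk_pow, QuotientGroup.eq_one_iff]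
        have hord : orderOf ((x ^ 2 ^ i : L) : Γ) = o := by
          rw [Subgroup.orderOf_coe, orderOf_pow' _ (by positivity), hio, Nat.gcd_eq_right (dvd_mul_right _ _),
            Nat.mul_div_cancel_left _ (by positivity)]
        have hmem : ((x ^ 2 ^ i : L) : Γ) ∈ centralizer (L : Set Γ) := by
          by_contra hc
          exact hcon _ (x ^ 2 ^ i).2 hc (hord ▸ ho)
        exact mem_center_iff.2 fun y => Subtype.ext (hmem y y.2)
      haveI : Fact (Nat.Prime 2) := ⟨Nat.prime_two⟩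
      haveI := h2.isNilpotent
      have hLsol : Group.IsSolvable ↥L :=
        haveI := CfsgLib.Solvable.isNilpotent_of_comm (K := ↥(center ↥L)) (fun a b => Subtype.ext (mem_center_iff.1 b.2 a))
        Group.isSolvable_of_ker_le_range (center ↥L).subtype (QuotientGroup.mk' (center ↥L)) (by simp)
      exact component_not_isSolvable hL hLsol
    obtain ⟨y, hyO, hyc, hyx, hyp, -⟩ := exists_diag hL B hBea x hxL fun b hb hbn =>
      ((hC ⟨hBA hb, hbn⟩) x hxL).symm
    have hne : ∀ b ∈ B, a * b ∉ normalizer (L : Set Γ) := fun b hb hn => by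
      have h1 : a * b ∈ B := hALB ⟨A.mul_mem haA (hBA hb), hn⟩
      exact haB (by simpa using B.mul_mem h1 (B.inv_mem hb))
    have hcomm : ∀ b ∈ B, b * a = a * b := fun b hb => setLike_mul_comm (hBA hb) haA
    have hyy : Commute y (a * y * a⁻¹) := commute_of_orbit hL hcomm hne hyO hyO
    have hyc' : a * y * a⁻¹ ∈ centralizer (L : Set Γ) :=
      orbit_le_centralizer hL (fun b hb he => hne b hb (map_conj_eq_iff.1 he)) ⟨y, hyO, rfl⟩
    have ha2 : a * a = 1 := by rw [← pow_two]; exact hA.2 a haA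
    refine hno (inverter_of_index_two hS3 hA (lt_of_le_of_ne hBA fun h => haB (h ▸ haA))
      (card_eq_mul_two hA hBA haA haB hsplit) haA (k := y⁻¹ * (a * y * a⁻¹)) (fun b hb => ?_) ?_ ?_ ?_)
    · have e1 : Commute b y := hyc b hb
      have e2 : Commute b a := hcomm b hb
      exact e1.inv_right.mul_right ((e2.mul_right e1).mul_right e2.inv_right)
    · intro h
      apply hxc
      rw [inv_mul_eq_one] at h
      have h2 : x = y * (x⁻¹ * y)⁻¹ := by group
      rw [h2]
      exact mul_mem (h ▸ hyc') (inv_mem hyx)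
    · refine hxodd.of_dvd_nat (orderOf_dvd_of_pow_eq_one ?_)
      rw [hyy.inv_left.mul_pow, inv_pow, hyp, conj_pow, hyp]
      simp
    · calc a * (y⁻¹ * (a * y * a⁻¹)) * a⁻¹ = (a * y * a⁻¹)⁻¹ * ((a * a) * y * (a * a)⁻¹) := by group
        _ = _ := by rw [ha2]; group
  -- `A ⊓ N(L)` acts nontrivially on `L`
  have hALZ : ∀ u ∈ AL, ∀ z ∈ L, (∀ y ∈ L, z * y = y * z) → u * z = z * u := by
    intro u hu z hz hzc
    have hZ : (center ↥L).map L.subtype ≤ Fi := by
      refine le_fitting_of_solvable_subnormal ((Subgroup.Normal.isSubnormal inferInstance).trans' hL.1) ?_ ?_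
      · haveI := CfsgLib.Solvable.isNilpotent_of_comm (K := ↥(center ↥L)) (fun a b => Subtype.ext (mem_center_iff.1 b.2 a))
        exact Group.isSolvable_of_surjective
          (f := ((center ↥L).equivMapOfInjective L.subtype L.subtype_injective).toMonoidHom) (MulEquiv.surjective _)
      · exact (map_subtype_le _).trans (le_centralizer_of_commutator_eq_bot (component_commutator_fitting hL))
    exact (hAF hu.1 z (hZ ⟨⟨z, hz⟩, mem_center_iff.2 fun y => Subtype.ext (hzc y y.2).symm, rfl⟩)).symm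
  obtain ⟨BL, a, x, m, hBL, ha, hxL, hxc, hBx, hax, hxodd, hcardL, hlast⟩ :=
    exists_component_element hKL hL hALea inf_le_right hALZ hC
  obtain ⟨Bg, ⟨hBLg, hBgA, hBgi⟩, hmax⟩ := Set.Finite.exists_maximal (Set.toFinite
    {X : Subgroup Γ | BL ≤ X ∧ X ≤ A ∧ X ⊓ AL ≤ BL}) ⟨BL, le_rfl, hBL.trans inf_le_left, inf_le_left⟩
  have hsup : Bg ⊔ AL = A := by
    refine le_antisymm (sup_le hBgA inf_le_left) fun u hu => ?_
    by_contra hun
    have hu' : u ∉ Bg := fun h => hun (mem_sup_left h)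
    refine hu' (hmax ⟨hBLg.trans le_sup_left, sup_le hBgA (zpowers_le.2 hu), ?_⟩ le_sup_left
      (mem_sup_right (mem_zpowers u)))
    rintro v ⟨hv, hvL⟩
    have hnorm : zpowers u ≤ normalizer (Bg : Set Γ) := zpowers_le.2 (centralizer_le_normalizer _ fun w hw =>
      setLike_mul_comm (hBgA hw) hu)
    change v ∈ ((Bg ⊔ zpowers u : Subgroup Γ) : Set Γ) at hv
    rw [coe_mul_of_right_le_normalizer_left _ _ hnorm] at hv
    obtain ⟨w, hw, t, ht, rfl⟩ := hv
    obtain ⟨i, rfl⟩ := mem_zpowers_iff.1 ht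
    have hu2 : u * u = 1 := by rw [← pow_two]; exact hA.2 u hu
    rcases Int.even_or_odd i with ⟨j, rfl⟩ | ⟨j, rfl⟩
    · have e : u ^ (j + j) = 1 := by rw [zpow_add, ← Commute.mul_zpow (Commute.refl u), hu2, one_zpow]
      show w * u ^ (j + j) ∈ BL
      rw [e, mul_one]
      change w * u ^ (j + j) ∈ AL at hvL
      rw [e, mul_one] at hvL
      exact hBgi ⟨hw, hvL⟩
    · exfalso
      apply hun
      have e : u ^ (2 * j + 1) = u := by
        rw [zpow_add, zpow_one, two_mul, zpow_add, ← Commute.mul_zpow (Commute.refl u), hu2, one_zpow, one_mul]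
      change w * u ^ (2 * j + 1) ∈ AL at hvL
      rw [e] at hvL
      have : u = w⁻¹ * (w * u) := by group
      rw [this]
      exact mul_mem (mem_sup_left (inv_mem hw)) (mem_sup_right hvL)
  have hcardA : Nat.card A = Nat.card Bg * 2 ^ m := by
    have hle : Bg ≤ normalizer (AL : Set Γ) := fun b hb => centralizer_le_normalizer _ fun w hw =>
      setLike_mul_comm hw.1 (hBgA hb)
    have h1 := CfsgLib.PLoc.card_sup_mul_card_inf hle
    rw [hsup, show Bg ⊓ AL = BL from le_antisymm hBgi (le_inf hBLg hBL), hcardL] at h1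
    refine Nat.eq_of_mul_eq_mul_right (Nat.card_pos (α := BL)) ?_
    rw [h1]; ring
  have hBgea : Cfsg.IsElementaryAbelian 2 Bg :=
    ⟨⟨⟨fun u v => Subtype.ext (setLike_mul_comm (hBgA u.2) (hBgA v.2))⟩⟩, fun u hu => hA.2 u (hBgA hu)⟩
  obtain ⟨y, -, hyc, hyx, hyp, hya⟩ := exists_diag hL Bg hBgea x hxL fun b hb hbn =>
    hBx b (hBgi ⟨hb, hBgA hb, hbn⟩)
  have hay : a * y * a⁻¹ = y⁻¹ := (hya a fun b hb => setLike_mul_comm (hBgA hb) ha.1).2 hax
  have hy1 : y ≠ 1 := by
    intro h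
    rw [h, mul_one] at hyx
    exact hxc (inv_mem_iff.1 hyx)
  have hyodd : Odd (orderOf y) := hxodd.of_dvd_nat (orderOf_dvd_of_pow_eq_one hyp)
  have hBgA' : Bg < A := by
    refine lt_of_le_of_ne hBgA fun h => ?_
    have h1 : a * y = y * a := hyc a (h ▸ ha.1)
    rw [h1, mul_inv_cancel_right, eq_inv_iff_mul_eq_one, ← pow_two, ← orderOf_dvd_iff_pow_eq_one] at hay
    rcases (Nat.dvd_prime Nat.prime_two).1 hay with h3 | h3
    · exact hy1 (orderOf_eq_one_iff.1 h3)
    · rw [h3] at hyodd; exact absurd hyodd (by decide)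
  rcases hlast with rfl | ⟨r, N, hr, hr2, hrx, hN, hm⟩
  · exact hno (inverter_of_index_two hS3 hA hBgA' (by rw [hcardA, pow_one]) ha.1 hyc hy1 hyodd hay)
  · haveI := Fact.mk hr
    exact hno ⟨Bg, a, y, r, N, m, hBgA', ha.1, hyc, hay,
      orderOf_eq_prime (by rw [← hrx]; exact hyp) hy1, hr, hr2, hN, hcardA, hm⟩

/-- Every nontrivial elementary abelian 2-subgroup has an inverted element. -/
theorem exists_inverter (hO : Cfsg.pCore 2 Γ = ⊥) (hS3 : ¬ Cfsg.Involves (Equiv.Perm (Fin 3)) Γ)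
    (hK : Cfsg.IsCompositionKGroupWith Cfsg.IsSuzukiOrPSL2OddPowerThree Γ) {A : Subgroup Γ}
    (hA : Cfsg.IsElementaryAbelian 2 A) (hA1 : A ≠ ⊥) : Inverter A :=
  exists_inverter_of_even hO hS3 (fun L hL hn _ => by
    haveI := hL.2.2
    exact hK L hL.1 (center ↥L) inferInstance hn) hA hA1

end CfsgLib.LocalEven.SquareBound
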