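import Cfsg.Agent.Lib.LocalEven.SquareBound.Defs
import Cfsg.Agent.Lib.Invol.BaerSuzuki
import Cfsg.Prelude.Def_LocalEven
import Mathlib.GroupTheory.Solvable
import Mathlib.GroupTheory.PGroup

/-!
# Inverted elements for elementary abelian groups of automorphisms of a simple group
-/

set_option autoImplicit false
set_option linter.style.haveILetI false

namespace CfsgLib.LocalEven.SquareBound

open Subgroup

/-- Some `α ∈ A` inverts an odd element fixed by a subgroup `B < A`: either of index two, or the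
element has prime order needing modules large against the index. -/
def Witness {Q : Type*} [Group Q] (A : Subgroup (MulAut Q)) : Prop :=
  ∃ (B : Subgroup (MulAut Q)) (α : MulAut Q) (x : Q) (m : ℕ), B < A ∧ α ∈ A ∧ (∀ β ∈ B, β x = x) ∧
    α x = x⁻¹ ∧ x ≠ 1 ∧ Odd (orderOf x) ∧ Nat.card A = Nat.card B * 2 ^ m ∧
    (m = 1 ∨ ∃ r N : ℕ, r.Prime ∧ r ≠ 2 ∧ orderOf x = r ∧ Prim r N ∧ 4 * m ≤ N + 1)

theorem witness_congr {Q Q' : Type*} [Group Q] [Group Q'] [Finite Q] (e : Q ≃* Q') {A : Subgroup (MulAut Q)}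
    (h : Witness (A.map (MulAut.congr e).toMonoidHom)) : Witness A := by
  obtain ⟨B, α, x, m, hBA, ⟨α0, hα0, rfl⟩, hfix, hinv, hx, hodd, hcard, hlast⟩ := h
  set f := MulAut.congr e
  have hBmap : (B.comap f.toMonoidHom).map f.toMonoidHom = B :=
    map_comap_eq_self_of_surjective f.surjective B
  refine ⟨B.comap f.toMonoidHom, α0, e.symm x, m, ?_, hα0, fun β hβ => ?_, ?_, ?_, ?_, ?_, ?_⟩
  · refine lt_of_le_of_ne (fun y hy => ?_) fun h => hBA.ne (by rw [← hBmap, h])
    exact (mem_map_iff_mem f.injective).1 (hBA.le hy)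
  · apply e.injective
    have := hfix (f β) hβ
    rwa [MulEquiv.apply_symm_apply]
  · apply e.injective
    rw [map_inv, MulEquiv.apply_symm_apply]
    exact hinv
  · simpa using hx
  · rwa [MulEquiv.orderOf_eq]
  · have h1 := Nat.card_congr (A.equivMapOfInjective f.toMonoidHom f.injective).toEquiv
    have h2 := Nat.card_congr ((B.comap f.toMonoidHom).equivMapOfInjective f.toMonoidHom f.injective).toEquiv
    rw [hBmap] at h2
    rw [h1, h2]
    exact hcard
  · rwa [MulEquiv.orderOf_eq]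

variable {Q : Type*} [Group Q] [Finite Q]

/-- An involutory automorphism of a nonabelian simple group inverts a nontrivial element of odd order. -/
theorem exists_inverted_of_invol [IsSimpleGroup Q] (hQ : ¬ IsMulCommutative Q) {α : MulAut Q}
    (hα : orderOf α = 2) : ∃ x : Q, x ≠ 1 ∧ Odd (orderOf x) ∧ α x = x⁻¹ := by
  haveI : Fact (Nat.Prime 2) := ⟨Nat.prime_two⟩
  set c : Q →* MulAut Q := MulAut.conj
  have hinj : Function.Injective c := by
    rw [← MonoidHom.ker_eq_bot_iff]
    refine (c.normal_ker.eq_bot_or_eq_top).resolve_right fun htop => hQ ⟨⟨fun a b => ?_⟩⟩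
    have h1 := DFunLike.congr_fun (show c a = 1 from htop.ge (mem_top a)) b
    exact mul_inv_eq_iff_eq_mul.1 h1
  have hconj : ∀ (β : MulAut Q) (q : Q), β * c q * β⁻¹ = c (β q) := fun β q => by
    ext z
    show β (q * β⁻¹ z * q⁻¹) = β q * z * (β q)⁻¹
    rw [map_mul, map_mul, map_inv, MulAut.apply_inv_self]
  set X := c.range ⊔ zpowers α
  haveI hIn : c.range.Normal := ⟨fun _ ⟨q, hq⟩ β => ⟨β q, by rw [← hq, hconj]⟩⟩
  have hαX : α ∈ X := mem_sup_right (mem_zpowers α)
  have hord : orderOf (⟨α, hαX⟩ : X) = 2 := by rw [Subgroup.orderOf_mk]; exact hα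
  obtain ⟨⟨h, hhX⟩, hh1, hhodd, hhinv⟩ := CfsgLib.Invol.exists_odd_inverted_of_notMem_normal_two
    hord fun N hN hN2 hαN => by
      haveI := hN
      have hαne : α ≠ 1 := fun h => by rw [h, orderOf_one] at hα; omega
      refine hαne (MulEquiv.ext fun q => ?_)
      let j : Q →* X := c.codRestrict X fun q => mem_sup_left ⟨q, rfl⟩
      have hjK : N.comap j = ⊥ := by
        refine ((Subgroup.Normal.comap hN j).eq_bot_or_eq_top).resolve_right fun htop => ?_
        have hQ2 : IsPGroup 2 Q := by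
          refine IsPGroup.of_injective hN2 (j.codRestrict N fun q => htop.ge (mem_top q)) ?_
          intro a b hab
          exact hinj (congrArg (fun z : N => ((z : X) : MulAut Q)) hab)
        haveI := hQ2.isNilpotent
        exact hQ ⟨⟨IsSimpleGroup.comm_iff_isSolvable.2 inferInstance⟩⟩
      have hmem : α q * q⁻¹ ∈ N.comap j := by
        show j (α q * q⁻¹) ∈ N
        have e : j (α q * q⁻¹) = (⟨α, hαX⟩ : X) * (j q * (⟨α, hαX⟩ : X)⁻¹ * (j q)⁻¹) := by
          apply Subtype.ext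
          show c (α q * q⁻¹) = α * (c q * α⁻¹ * (c q)⁻¹)
          rw [map_mul, map_inv, ← hconj]
          group
        rw [e]
        exact N.mul_mem hαN (hN.conj_mem _ (N.inv_mem hαN) _)
      rw [hjK, mem_bot, mul_inv_eq_one] at hmem
      exact hmem
  rw [Subgroup.orderOf_mk] at hhodd
  have hh1' : h ≠ 1 := fun e => hh1 (Subtype.ext e)
  have hhinv' : α * h * α⁻¹ = h⁻¹ := congrArg Subtype.val hhinv
  have hsq : h * h ∈ c.range := by
    have hX : h ∈ c.range ⊔ zpowers α := hhX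
    rw [sup_comm, ← SetLike.mem_coe, Subgroup.mul_normal] at hX
    obtain ⟨i, hi, w, hw, rfl⟩ := hX
    obtain ⟨n, rfl⟩ := mem_zpowers_iff.1 hi
    have h2 : α ^ n * α ^ n = 1 := by
      rw [← Commute.mul_zpow (Commute.refl α), ← pow_two, ← hα, pow_orderOf_eq_one, one_zpow]
    have e : α ^ n * w * (α ^ n * w) = (α ^ n * w * (α ^ n)⁻¹) * ((α ^ n * α ^ n) * w) := by group
    change α ^ n * w * (α ^ n * w) ∈ c.range
    rw [e, h2, one_mul]
    exact mul_mem (hIn.conj_mem _ hw _) hw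
  obtain ⟨k, hk⟩ := hhodd
  have hmem : h ∈ c.range := by
    have : h = (h * h) ^ (k + 1) := by
      rw [← pow_two, ← pow_mul, show 2 * (k + 1) = orderOf h + 1 by omega, pow_succ, pow_orderOf_eq_one,
        one_mul]
    rw [this]
    exact pow_mem hsq _
  obtain ⟨x, hx⟩ := hmem
  refine ⟨x, fun e => hh1' (by rw [← hx, e, map_one]), ?_, ?_⟩
  · rw [← orderOf_injective c hinj, hx]
    exact ⟨k, hk⟩
  · apply hinj
    rw [map_inv, hx, ← hconj, hx, hhinv']

theorem witness_of_card_two [IsSimpleGroup Q] (hQ : ¬ IsMulCommutative Q) {A : Subgroup (MulAut Q)}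
    (hA : Cfsg.IsElementaryAbelian 2 A) (hc : Nat.card A = 2) : Witness A := by
  haveI : Nontrivial A := Finite.one_lt_card_iff_nontrivial.1 (by omega)
  obtain ⟨⟨α, hα⟩, hα1⟩ := exists_ne (1 : A)
  have hne : α ≠ 1 := fun h => hα1 (Subtype.ext h)
  haveI : Fact (Nat.Prime 2) := ⟨Nat.prime_two⟩
  obtain ⟨x, hx1, hodd, hinv⟩ := exists_inverted_of_invol hQ (orderOf_eq_prime (hA.2 α hα) hne)
  exact ⟨⊥, α, x, 1, bot_lt_iff_ne_bot.2 fun h => hne (mem_bot.1 (h ▸ hα)), hα,
    fun β hβ => by rw [mem_bot.1 hβ]; rfl, hinv, hx1, hodd, by rw [hc, card_bot, one_mul, pow_one],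
    Or.inl rfl⟩

end CfsgLib.LocalEven.SquareBound
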